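import Cfsg.Agent.H15.Homogeneous
import Cfsg.Agent.H13.Correspondence

/-!
# Isaacs 11.32: induced characters that are not homogeneous on all normal subgroups
-/

set_option autoImplicit false

open Cfsg
open scoped ComplexConjugate Pointwise

namespace H15

universe u

theorem irr_of_resTo_irr {G : Type u} [Group G] [Finite G] {B A : Subgroup G} (h : B ≤ A)
    {φ : A → ℂ} (hφ : IsCharacter A φ) (hres : IsIrrCharacter B (H13.resTo h φ)) :
    IsIrrCharacter A φ := by
  classical
  haveI := Fintype.ofFinite A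
  haveI := Fintype.ofFinite B
  obtain ⟨m, hm⟩ := H12.IsCharacter.exists_mult hφ
  set θ := H13.resTo h φ with hθ
  have hlin : classInner θ θ =
      ∑ ψ : IrrCharacter A, (m ψ : ℂ) * classInner (H13.resTo h (ψ : A → ℂ)) θ := by
    simp only [← H12.classInner_smul_left, ← H12.classInner_sum_left]
    congr 1
    funext b
    rw [hθ, H13.resTo_apply, hm]
    simp [Finset.sum_apply, H13.resTo_apply]
  rw [show classInner θ θ = 1 from H12.classInner_irr_self (⟨θ, hres⟩ : IrrCharacter B)] at hlin
  obtain ⟨ψ, -, hψ⟩ := Finset.exists_ne_zero_of_sum_ne_zero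
    (hlin ▸ one_ne_zero : (∑ ψ : IrrCharacter A, (m ψ : ℂ) *
      classInner (H13.resTo h (ψ : A → ℂ)) θ) ≠ 0)
  obtain ⟨hm0, hψθ⟩ := mul_ne_zero_iff.1 hψ
  obtain ⟨c, hc⟩ := H12.IsCharacter.apply_one
    (H13.isCharacter_sub_irr (H13.isCharacter_resTo h (H12.isCharacter_irr ψ)) hres hψθ)
  have hdθ : θ 1 = φ 1 := rfl
  have h1 : H12.degree (ψ : A → ℂ) = c + H12.degree φ := by
    rw [Pi.sub_apply, hdθ, H13.resTo_apply] at hc
    simp only [OneMemClass.coe_one] at hc
    have h2 : (ψ : A → ℂ) 1 - φ 1 = c := hc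
    rw [H12.irr_apply_one, H12.IsCharacter.apply_one_eq_degree hφ, sub_eq_iff_eq_add] at h2
    exact_mod_cast h2
  have h3 : H12.degree φ = ∑ χ : IrrCharacter A, m χ * H12.degree (χ : A → ℂ) := by
    have h4 := congrFun hm 1
    simp only [Finset.sum_apply, Pi.smul_apply, smul_eq_mul, H12.irr_apply_one,
      H12.IsCharacter.apply_one_eq_degree hφ] at h4
    exact_mod_cast h4
  have hm1 : m ψ ≠ 0 := fun h0 => hm0 (by rw [h0, Nat.cast_zero])
  have h5 := Finset.add_sum_erase Finset.univ (fun χ : IrrCharacter A => m χ * H12.degree (χ : A → ℂ))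
    (Finset.mem_univ ψ)
  rw [← h3] at h5
  have h6 : m ψ * H12.degree (ψ : A → ℂ) ≥ H12.degree (ψ : A → ℂ) :=
    Nat.le_mul_of_pos_left _ (Nat.pos_of_ne_zero hm1)
  have h7 : m ψ = 1 := by
    have := H12.irr_degree_pos ψ
    by_contra hne
    have h8 : 2 * H12.degree (ψ : A → ℂ) ≤ m ψ * H12.degree (ψ : A → ℂ) :=
      Nat.mul_le_mul_right _ (by omega)
    omega
  have hz : ∀ χ : IrrCharacter A, χ ≠ ψ → m χ = 0 := by
    intro χ hχ
    have h8 := Finset.single_le_sum (f := fun χ : IrrCharacter A => m χ * H12.degree (χ : A → ℂ))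
      (fun _ _ => Nat.zero_le _) (Finset.mem_erase.2 ⟨hχ, Finset.mem_univ χ⟩)
    have h9 : m χ * H12.degree (χ : A → ℂ) = 0 := by omega
    exact (Nat.mul_eq_zero.1 h9).resolve_right (H12.irr_degree_pos χ).ne'
  rw [hm, Finset.sum_eq_single ψ (fun χ _ hχ => by rw [hz χ hχ, Nat.cast_zero, zero_smul])
    (by simp), h7, Nat.cast_one, one_smul]
  exact ψ.2

variable {G : Type u} [Group G] [Fintype G]

theorem card_comap_mk (C : Subgroup G) [C.Normal] (A : Subgroup (G ⧸ C)) :
    Nat.card (A.comap (QuotientGroup.mk' C)) = Nat.card C * Nat.card A := by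
  have h1 := (A.comap (QuotientGroup.mk' C)).card_mul_index
  rw [Subgroup.index_comap_of_surjective A (QuotientGroup.mk'_surjective C), ← C.card_mul_index,
    Subgroup.index_eq_card C, ← A.card_mul_index, ← mul_assoc] at h1
  exact Nat.eq_of_mul_eq_mul_right (Nat.pos_of_ne_zero Subgroup.index_ne_zero_of_finite) h1

theorem card_eq_prime_pow_of_exponent {A : Type u} [Group A] (K : Subgroup A) [Finite K] {p : ℕ}
    (hp : p.Prime) (h : ∀ a ∈ K, a ^ p = 1) : ∃ n : ℕ, Nat.card K = p ^ n := by
  haveI := Fact.mk hp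
  exact IsPGroup.iff_card.1 fun a => ⟨1, Subtype.ext (by simpa using h a a.2)⟩

theorem exists_not_homogeneous (L H : Subgroup G) [L.Normal] (hLH : L ≤ H) (hmax : IsCoatom H)
    (hsolv : Group.IsSolvable (G ⧸ L)) {ϑ : H → ℂ} (hϑ : IsIrrCharacter H ϑ)
    (hϑL : IsIrrCharacter L (fun x : L => ϑ ⟨(x : G), hLH x.2⟩))
    (hind : IsIrrCharacter G (indFun H ϑ)) :
    ∃ M : Subgroup G, M.Normal ∧ L ≤ M ∧ ¬ ∃ (φ : M → ℂ) (e : ℕ), IsIrrCharacter M φ ∧
      (fun m : M => indFun H ϑ m) = (e : ℂ) • φ := by
  classical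
  by_contra hcon
  have hhom : ∀ M : Subgroup G, M.Normal → L ≤ M → ∃ (φ : M → ℂ) (e : ℕ), IsIrrCharacter M φ ∧
      (fun m : M => indFun H ϑ m) = (e : ℂ) • φ := fun M hM hL => by
    by_contra h
    exact hcon ⟨M, hM, hL, h⟩
  set χ := indFun H ϑ with hχdef
  have hχc := H12.isCharacter_of_isIrrCharacter hind
  have hϑc := H12.isCharacter_of_isIrrCharacter hϑ
  have hϑcl := H12.IsCharacter.isClassFunction hϑc
  set C := H.normalCore with hC
  have hLC : L ≤ C := Subgroup.normal_le_normalCore.2 hLH
  have hCH : C ≤ H := H.normalCore_le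
  have hresirr : ∀ (A : Subgroup G) (hLA : L ≤ A) (hAH : A ≤ H),
      IsIrrCharacter A (H13.resTo hAH ϑ) := fun A hLA hAH =>
    irr_of_resTo_irr hLA (H13.isCharacter_resTo hAH hϑc) hϑL
  haveI : Group.IsSolvable (G ⧸ C) :=
    Group.isSolvable_of_surjective (f := QuotientGroup.map L C (MonoidHom.id G) hLC)
      (by
        intro x
        obtain ⟨g, rfl⟩ := QuotientGroup.mk_surjective x
        exact ⟨(g : G ⧸ L), rfl⟩)
  haveI : Nontrivial (G ⧸ C) :=
    QuotientGroup.nontrivial_iff.2 fun h => hmax.1 (top_le_iff.1 (h ▸ hCH))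
  -- a chief factor `K/C`
  obtain ⟨K', p, hK'n, hp, hK'0, hK'pow, hK'ab, hK'min⟩ :=
    exists_minimal_normal_elementary (G := G ⧸ C)
  set K := K'.comap (QuotientGroup.mk' C) with hK
  haveI hKn : K.Normal := hK'n.comap _
  have hCK : C ≤ K := fun x hx => by
    show (x : G ⧸ C) ∈ K'
    rw [(QuotientGroup.eq_one_iff x).2 hx]
    exact K'.one_mem
  have hKH : K ⊔ H = ⊤ := by
    refine hmax.2 _ (lt_of_le_of_ne le_sup_right fun h => hK'0 ?_)
    have hKC : K ≤ C := Subgroup.normal_le_normalCore.2 (h.symm ▸ le_sup_left)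
    rw [Subgroup.eq_bot_iff_forall]
    intro x hx
    obtain ⟨g, rfl⟩ := QuotientGroup.mk_surjective x
    exact (QuotientGroup.eq_one_iff g).2 (hKC hx)
  have hinf : K ⊓ H = C := by
    refine le_antisymm ?_ (le_inf hCK hCH)
    haveI : (K ⊓ H).Normal := by
      rw [← Subgroup.normalizer_eq_top_iff, eq_top_iff, ← hKH, sup_le_iff]
      refine ⟨Subgroup.le_normalizer_iff.2 fun k hk x hx => ?_,
        Subgroup.le_normalizer_iff.2 fun y hy x hx =>
          ⟨hKn.conj_mem x hx.1 y, H.mul_mem (H.mul_mem hy hx.2) (H.inv_mem hy)⟩⟩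
      have hc : k * x * k⁻¹ * x⁻¹ ∈ C := by
        rw [← QuotientGroup.eq_one_iff]
        simp only [QuotientGroup.mk_mul, QuotientGroup.mk_inv]
        rw [hK'ab (k : G ⧸ C) hk (x : G ⧸ C) hx.1]
        group
      have : k * x * k⁻¹ = k * x * k⁻¹ * x⁻¹ * x := by group
      rw [this]
      exact ⟨K.mul_mem (hCK hc) hx.1, H.mul_mem (hCH hc) hx.2⟩
    exact Subgroup.normal_le_normalCore.2 inf_le_right
  set q := Nat.card K' with hq
  obtain ⟨a, ha⟩ := card_eq_prime_pow_of_exponent K' hp hK'pow
  rw [← hq] at ha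
  have hq1 : q ≠ 1 := fun h => hK'0 (Subgroup.card_eq_one.1 h)
  have hcardK : Nat.card K = Nat.card C * q := card_comap_mk C K'
  have hindex : H.index = q := by
    have h := sum_eq_of_complement K H C hKH hinf (fun _ => (1 : ℂ)) (fun _ _ _ => rfl)
    simp only [Finset.sum_const, Finset.card_univ, nsmul_eq_mul, mul_one,
      ← Nat.card_eq_fintype_card] at h
    have h2 : Nat.card C * Nat.card G = Nat.card H * Nat.card K := by exact_mod_cast h
    rw [← H.card_mul_index, hcardK] at h2
    have h3 : Nat.card C * Nat.card H * H.index = Nat.card C * Nat.card H * q := by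
      rw [mul_assoc, h2]; ring
    exact Nat.eq_of_mul_eq_mul_left (Nat.mul_pos Nat.card_pos Nat.card_pos) h3
  -- the restriction to `C`
  set α := H13.resTo hCH ϑ with hα
  have hαirr : IsIrrCharacter C α := hresirr C hLC hCH
  have hχC : (fun c : C => χ c) = (q : ℂ) • α := by
    obtain ⟨φ, f, hφ, hf⟩ := hhom C inferInstance hLC
    have hne : classInner (fun c : C => χ c) α ≠ 0 := by
      have h1 : classInner (fun x : H => χ x) ϑ ≠ 0 := by
        rw [← H13.classInner_indFun_right H ϑ (H13.indFun_isClassFunction H ϑ), ← hχdef,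
          show classInner χ χ = 1 from H12.classInner_irr_self (⟨χ, hind⟩ : IrrCharacter G)]
        exact one_ne_zero
      have hs := H13.isCharacter_sub_irr (H12.IsCharacter.res hχc H) hϑ h1
      obtain ⟨n, hn⟩ := H12.IsCharacter.classInner_nat (H13.isCharacter_resTo hCH hs)
        (H12.isCharacter_of_isIrrCharacter hαirr)
      have heq : classInner (fun c : C => χ c) α = (n : ℂ) + 1 := by
        rw [← hn, ← H12.classInner_irr_self (⟨α, hαirr⟩ : IrrCharacter C), ← H12.classInner_add_left]
        congr 1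
        funext c
        simp [H13.resTo_apply, hα]
      rw [heq]
      exact_mod_cast Nat.succ_ne_zero n
    have hφα : φ = α := by
      by_contra hd
      apply hne
      rw [hf, H12.classInner_smul_left, show φ = ((⟨φ, hφ⟩ : IrrCharacter C) : C → ℂ) from rfl,
        show α = ((⟨α, hαirr⟩ : IrrCharacter C) : C → ℂ) from rfl,
        H12.classInner_irr_ne (fun h => hd (congrArg Subtype.val h)), mul_zero]
    subst hφα
    have h1 := congrFun hf 1
    simp only [Pi.smul_apply, smul_eq_mul, OneMemClass.coe_one] at h1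
    rw [hχdef, H13.indFun_apply_one, hindex, show ϑ 1 = α 1 from rfl] at h1
    have hfq : (q : ℂ) = f :=
      mul_right_cancel₀ (H12.irr_apply_one_ne_zero (⟨α, hαirr⟩ : IrrCharacter C)) h1
    rw [hf, hfq]
  -- the restriction to `K`
  obtain ⟨β, e, hβ, he⟩ := hhom K hKn (hLC.trans hCK)
  have he2 : e ^ 2 = q := by
    have hvan : ∀ x : K, (x : G) ∉ C → χ x = 0 := by
      intro x hx
      rw [hχdef, indFun_eq_sum_complement K H C hKH hinf hϑcl, Finset.sum_eq_zero, mul_zero]
      intro k _
      refine H12.extendByZero_of_notMem _ _ fun hm => hx ?_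
      have hmC : (k : G)⁻¹ * x * k ∈ C := hinf.le ⟨K.mul_mem (K.mul_mem (K.inv_mem k.2) x.2) k.2, hm⟩
      have := (H.normalCore_normal).conj_mem _ hmC k
      rwa [show (k : G) * ((k : G)⁻¹ * x * k) * (k : G)⁻¹ = x by group] at this
    have h1 : ∑ x : K, Complex.normSq (χ x) = ∑ c : C, Complex.normSq (χ c) := by
      rw [← sum_normSq_mem K χ, ← sum_normSq_mem C χ]
      refine (Finset.sum_subset (fun x hx => ?_) fun x hx hx' => ?_).symm
      · simp only [Finset.mem_filter, Finset.mem_univ, true_and] at hx ⊢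
        exact hCK hx
      · simp only [Finset.mem_filter, Finset.mem_univ, true_and] at hx hx'
        rw [hvan ⟨x, hx⟩ hx', map_zero]
    have h2 : ∀ x : K, χ x = (e : ℂ) * β x := fun x => congrFun he x
    have h3 : ∀ c : C, χ c = (q : ℂ) * α c := fun c => congrFun hχC c
    simp only [h2, h3, Complex.normSq_mul, Complex.normSq_natCast, ← Finset.mul_sum,
      sum_normSq_irr' hβ, sum_normSq_irr' hαirr, hcardK] at h1
    have h4 : Nat.card C * q * (e ^ 2) = Nat.card C * q * q := by
      have : e * e * (Nat.card C * q) = q * q * Nat.card C := by exact_mod_cast h1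
      linarith [this, sq e, mul_comm (e * e) (Nat.card C * q)]
    exact Nat.eq_of_mul_eq_mul_left
      (Nat.mul_pos Nat.card_pos (Nat.pos_of_ne_zero (by rw [hq]; exact Nat.card_pos.ne'))) h4
  have he0 : e ≠ 0 := by rintro rfl; simp at he2; exact Nat.card_pos.ne' (hq.symm.trans he2.symm)
  -- `K` is proper
  have hKtop : K ≠ ⊤ := by
    intro hK'
    have h1 : classInner (fun x : K => χ x) (fun x : K => χ x) = 1 := by
      have hs : ∀ f : G → ℂ, ∑ x : K, f x = ∑ g : G, f g := fun f =>
        Fintype.sum_bijective Subtype.val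
          ⟨Subtype.val_injective, fun g => ⟨⟨g, hK' ▸ Subgroup.mem_top g⟩, rfl⟩⟩ _ _ fun _ => rfl
      rw [← show classInner χ χ = 1 from H12.classInner_irr_self (⟨χ, hind⟩ : IrrCharacter G)]
      simp only [classInner]
      rw [hs (fun g => χ g * conj (χ g)), hK', Subgroup.card_top]
    rw [he, H12.classInner_smul_left, H12.classInner_smul_right,
      show classInner β β = 1 from H12.classInner_irr_self (⟨β, hβ⟩ : IrrCharacter K),
      Complex.conj_natCast, mul_one] at h1
    have : e * e = 1 := by exact_mod_cast h1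
    rw [sq, this] at he2
    exact hq1 he2.symm
  -- a chief factor `N/K`
  haveI : Group.IsSolvable (G ⧸ K) :=
    Group.isSolvable_of_surjective (f := QuotientGroup.map C K (MonoidHom.id G) hCK)
      (by
        intro x
        obtain ⟨g, rfl⟩ := QuotientGroup.mk_surjective x
        exact ⟨(g : G ⧸ C), rfl⟩)
  haveI : Nontrivial (G ⧸ K) := QuotientGroup.nontrivial_iff.2 hKtop
  obtain ⟨N', ℓ, hN'n, hℓ, hN'0, hN'pow, -, -⟩ := exists_minimal_normal_elementary (G := G ⧸ K)
  set N := N'.comap (QuotientGroup.mk' K) with hN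
  haveI hNn : N.Normal := hN'n.comap _
  have hKN : K ≤ N := fun x hx => by
    show (x : G ⧸ K) ∈ N'
    rw [(QuotientGroup.eq_one_iff x).2 hx]
    exact N'.one_mem
  obtain ⟨b, hb⟩ := card_eq_prime_pow_of_exponent N' hℓ hN'pow
  have hcardN : Nat.card N = Nat.card K * ℓ ^ b := by rw [← hb]; exact card_comap_mk K N'
  -- it suffices that `N ⊓ H` centralises `K/C`
  suffices hcent : ∀ s ∈ N ⊓ H, ∀ k ∈ K, k⁻¹ * s * k ∈ H by
    haveI : (N ⊓ H).Normal := by
      rw [← Subgroup.normalizer_eq_top_iff, eq_top_iff, ← hKH, sup_le_iff]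
      refine ⟨Subgroup.le_normalizer_iff.2 fun k hk x hx => ?_,
        Subgroup.le_normalizer_iff.2 fun y hy x hx =>
          ⟨hNn.conj_mem x hx.1 y, H.mul_mem (H.mul_mem hy hx.2) (H.inv_mem hy)⟩⟩
      refine ⟨hNn.conj_mem x hx.1 k, ?_⟩
      have := hcent x hx k⁻¹ (K.inv_mem hk)
      rwa [inv_inv] at this
    have hle : N ⊓ H ≤ C := Subgroup.normal_le_normalCore.2 inf_le_right
    have hNK : N ≤ K := by
      intro x hx
      obtain ⟨k, hk, y, hy, rfl⟩ := Subgroup.mem_sup_of_normal_left.1
        (hKH ▸ Subgroup.mem_top x : x ∈ K ⊔ H)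
      have hyN : y ∈ N := by
        have := N.mul_mem (N.inv_mem (hKN hk)) hx
        rwa [inv_mul_cancel_left] at this
      exact K.mul_mem hk (hCK (hle ⟨hyN, hy⟩))
    apply hN'0
    rw [Subgroup.eq_bot_iff_forall]
    intro x hx
    obtain ⟨g, rfl⟩ := QuotientGroup.mk_surjective x
    exact (QuotientGroup.eq_one_iff g).2 (hNK hx)
  by_cases hpl : ℓ = p
  · -- a `p`-group above a minimal normal subgroup: central
    subst hpl
    set NC := N.map (QuotientGroup.mk' C) with hNC
    haveI : NC.Normal := hNn.map _ (QuotientGroup.mk'_surjective C)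
    have hcomap : NC.comap (QuotientGroup.mk' C) = N :=
      Subgroup.comap_map_eq_self (by rw [QuotientGroup.ker_mk']; exact hCK.trans hKN)
    haveI := Fact.mk hp
    have hpg : IsPGroup ℓ NC := by
      refine IsPGroup.of_card (n := a + b) ?_
      have h := card_comap_mk C NC
      rw [hcomap, hcardN, hcardK, ha, mul_assoc, ← pow_add] at h
      exact (Nat.eq_of_mul_eq_mul_left Nat.card_pos h).symm
    have hK'NC : K' ≤ NC := by
      intro x hx
      obtain ⟨g, rfl⟩ := QuotientGroup.mk_surjective x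
      exact ⟨g, hKN hx, rfl⟩
    haveI := hK'n
    have hne : K'.subgroupOf NC ≠ ⊥ := fun h =>
      hK'0 (eq_bot_iff.2 fun x hx => by
        have : (⟨x, hK'NC hx⟩ : NC) ∈ K'.subgroupOf NC := hx
        rw [h, Subgroup.mem_bot] at this
        exact congrArg Subtype.val this)
    have hmeet := H6.inf_center_ne_bot hpg hne
    have hK'c : K' ≤ Subgroup.centralizer (NC : Set (G ⧸ C)) := by
      rcases hK'min (K' ⊓ Subgroup.centralizer (NC : Set (G ⧸ C))) inferInstance inf_le_left
        with h | h
      · exfalso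
        apply hmeet
        rw [Subgroup.eq_bot_iff_forall]
        rintro z ⟨hz, hzc⟩
        have : (z : G ⧸ C) ∈ K' ⊓ Subgroup.centralizer (NC : Set (G ⧸ C)) :=
          ⟨hz, Subgroup.mem_centralizer_iff.2 fun y hy =>
            congrArg Subtype.val (Subgroup.mem_center_iff.1 hzc ⟨y, hy⟩)⟩
        rw [h, Subgroup.mem_bot] at this
        exact Subtype.ext this
      · exact inf_eq_left.1 h
    intro s hs k hk
    have hcomm := Subgroup.mem_centralizer_iff.1 (hK'c hk) (s : G ⧸ C) ⟨s, hs.1, rfl⟩
    have hmem : k⁻¹ * s * k * s⁻¹ ∈ C := by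
      rw [← QuotientGroup.eq_one_iff]
      simp only [QuotientGroup.mk_mul, QuotientGroup.mk_inv, QuotientGroup.mk'_apply] at hcomm ⊢
      rw [mul_assoc (k : G ⧸ C)⁻¹, hcomm]
      group
    have := H.mul_mem (hCH hmem) hs.2
    rwa [inv_mul_cancel_right] at this
  · -- coprime case: the constituent on `N` restricts irreducibly to `K`
    obtain ⟨γ, f, hγ, hf⟩ := hhom N hNn ((hLC.trans hCK).trans hKN)
    have hf0 : f ≠ 0 := by
      rintro rfl
      have := congrFun hf 1
      simp only [Nat.cast_zero, zero_smul, Pi.zero_apply, OneMemClass.coe_one] at this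
      exact H12.irr_apply_one_ne_zero (⟨χ, hind⟩ : IrrCharacter G) this
    let ek := Subgroup.subgroupOfEquivOfLe hKN
    let β' : K.subgroupOf N → ℂ := β ∘ ek
    have hβ' : IsIrrCharacter (K.subgroupOf N) β' := H13.isIrrCharacter_comp_equiv ek hβ
    have hval : ∀ x : K.subgroupOf N, (f : ℂ) * γ x = (e : ℂ) * β' x := by
      intro x
      have h1 := congrFun hf (x : N)
      have h2 := congrFun he (ek x)
      simp only [Pi.smul_apply, smul_eq_mul] at h1 h2
      rw [← h1]
      exact h2
    obtain ⟨t, ht⟩ := H12.IsCharacter.classInner_nat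
      (H12.IsCharacter.res (H12.isCharacter_of_isIrrCharacter hγ) (K.subgroupOf N))
      (H12.isCharacter_of_isIrrCharacter hβ')
    have hft : f * t = e := by
      have h1 : (f : ℂ) * t = e := by
        rw [← ht, ← H12.classInner_smul_left,
          show ((f : ℂ) • fun x : K.subgroupOf N => γ x) = (e : ℂ) • β' from funext hval,
          H12.classInner_smul_left,
          show classInner β' β' = 1 from H12.classInner_irr_self (⟨β', hβ'⟩ : IrrCharacter _),
          mul_one]
      exact_mod_cast h1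
    have hres : (fun x : K.subgroupOf N => γ x) = (t : ℂ) • β' := by
      funext x
      have h1 := hval x
      rw [← hft, Nat.cast_mul, mul_assoc] at h1
      exact mul_left_cancel₀ (Nat.cast_ne_zero.2 hf0) h1
    have ht0 : t ≠ 0 := by rintro rfl; rw [mul_zero] at hft; exact he0 hft.symm
    have hinvK : ∀ g : G, H13.twist K g β = β := by
      intro g
      have h1 := H13.twist_res K (H12.IsCharacter.isClassFunction hχc) g
      rw [he] at h1
      exact smul_right_injective _ (Nat.cast_ne_zero.2 he0 : (e : ℂ) ≠ 0)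
        (by simpa [H13.twist, funext_iff] using h1)
    have hdvd := ramification_dvd_index hγ hβ' (fun g => by
      funext x
      exact congrFun (hinvK g) (ek x)) t ht0 hres
    have hidx : (K.subgroupOf N).index = ℓ ^ b := by
      have h1 := (K.subgroupOf N).card_mul_index
      rw [Nat.card_congr ek.toEquiv, hcardN] at h1
      exact Nat.eq_of_mul_eq_mul_left Nat.card_pos h1
    have ht1 : t = 1 := by
      have htq : t ∣ p ^ a := by
        rw [← ha, ← he2, sq]; exact (dvd_of_mul_left_eq f hft).mul_right e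
      have hco : Nat.Coprime (p ^ a) (ℓ ^ b) :=
        ((Nat.coprime_primes hp hℓ).2 (Ne.symm hpl)).pow a b
      exact Nat.eq_one_of_dvd_coprimes hco htq (hidx ▸ hdvd)
    rw [ht1, mul_one] at hft
    subst hft
    -- the counting
    set S := N ⊓ H with hS
    have hcardS : Nat.card N = q * Nat.card S := by
      have h1 : (S.subgroupOf H).index = N.index := by
        rw [hS, show (N ⊓ H).subgroupOf H = N.subgroupOf H from Subgroup.inf_subgroupOf_right N H]
        show N.relIndex H = N.index
        rw [← Subgroup.relIndex_sup_left H N, ← Subgroup.relIndex_top_right]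
        congr 1
        exact top_le_iff.1 (hKH ▸ sup_le_sup_right hKN H)
      have h2 := (S.subgroupOf H).card_mul_index
      rw [Nat.card_congr (Subgroup.subgroupOfEquivOfLe inf_le_right).toEquiv, h1] at h2
      have h3 := N.card_mul_index
      rw [← H.card_mul_index, hindex, ← h2] at h3
      exact Nat.eq_of_mul_eq_mul_right (Nat.pos_of_ne_zero Subgroup.index_ne_zero_of_finite)
        (by rw [h3]; ring)
    have hsumN : ∑ x : N, Complex.normSq (χ x) = (q : ℝ) * Nat.card N := by
      have h2 : ∀ x : N, χ x = (f : ℂ) * γ x := fun x => congrFun hf x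
      simp only [h2, Complex.normSq_mul, Complex.normSq_natCast, ← Finset.mul_sum,
        sum_normSq_irr' hγ]
      rw [← he2]; push_cast; ring
    have hmain := sum_normSq_indFun_le K H C hKH hinf hϑcl N
    rw [← hχdef, hsumN] at hmain
    set F : G → ℝ := fun x => ((Finset.univ.filter fun k : K => (k : G)⁻¹ * x * k ∈ H).card : ℝ) *
      Complex.normSq (extendByZero H ϑ x) with hF
    have hFS : ∑ x ∈ Finset.univ.filter (fun x : G => x ∈ N), F x = ∑ s : S, F s := by
      rw [← Finset.sum_subtype (Finset.univ.filter fun g : G => g ∈ S) (fun g => by simp) F]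
      refine (Finset.sum_subset (fun x hx => ?_) fun x hx hx' => ?_).symm
      · simp only [Finset.mem_filter, Finset.mem_univ, true_and] at hx ⊢
        exact hx.1
      · simp only [Finset.mem_filter, Finset.mem_univ, true_and] at hx hx'
        simp only [hF]
        rw [H12.extendByZero_of_notMem _ _ (fun hm => hx' ⟨hx, hm⟩), map_zero, mul_zero]
    rw [hFS, hcardS, hcardK] at hmain
    push_cast at hmain
    let T : Subgroup G :=
      { carrier := {x | x ∈ S ∧ ∀ k ∈ K, k⁻¹ * x * k ∈ H}
        one_mem' := ⟨S.one_mem, fun k _ => by simp⟩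
        mul_mem' := fun {x y} hx hy => ⟨S.mul_mem hx.1 hy.1, fun k hk => by
          rw [show k⁻¹ * (x * y) * k = (k⁻¹ * x * k) * (k⁻¹ * y * k) by group]
          exact H.mul_mem (hx.2 k hk) (hy.2 k hk)⟩
        inv_mem' := fun {x} hx => ⟨S.inv_mem hx.1, fun k hk => by
          rw [show k⁻¹ * x⁻¹ * k = (k⁻¹ * x * k)⁻¹ by group]
          exact H.inv_mem (hx.2 k hk)⟩ }
    have hTS : T ≤ S := fun x hx => hx.1
    have hCT : C ≤ T := fun x hx => ⟨⟨hKN (hCK hx), hCH hx⟩, fun k _ => hCH (by
      simpa using (H.normalCore_normal).conj_mem x hx k⁻¹)⟩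
    have hϑS : ∀ (A : Subgroup G) (hLA : L ≤ A) (hAH : A ≤ H),
        ∑ x : A, Complex.normSq (extendByZero H ϑ x) = (Nat.card A : ℝ) := by
      intro A hLA hAH
      rw [← sum_normSq_irr' (hresirr A hLA hAH)]
      refine Finset.sum_congr rfl fun x _ => ?_
      rw [H12.extendByZero_mk H ϑ (hAH x.2)]
      rfl
    have hSsum := hϑS S (hLC.trans (hCT.trans hTS)) inf_le_right
    have hTsum := hϑS T (hLC.trans hCT) (hTS.trans inf_le_right)
    have hCle : ∀ s : S, F s ≤ (Nat.card C : ℝ) * q * Complex.normSq (extendByZero H ϑ (s : G)) := by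
      intro s
      refine mul_le_mul_of_nonneg_right ?_ (Complex.normSq_nonneg _)
      rw [← Nat.cast_mul, ← hcardK, Nat.card_eq_fintype_card]
      exact_mod_cast Finset.card_le_univ _
    have hC0 : (0 : ℝ) < Nat.card C := Nat.cast_pos.2 Nat.card_pos
    have hq0 : (0 : ℝ) < q := Nat.cast_pos.2 (by rw [hq]; exact Nat.card_pos)
    have hge : (Nat.card C : ℝ) * q * Nat.card S ≤ ∑ s : S, F s :=
      le_of_mul_le_mul_left (by linarith) (mul_pos hC0 hq0)
    have heq : ∑ s : S, F s =
        ∑ s : S, (Nat.card C : ℝ) * q * Complex.normSq (extendByZero H ϑ (s : G)) := by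
      refine le_antisymm (Finset.sum_le_sum fun s _ => hCle s) ?_
      rw [← Finset.mul_sum, hSsum]; exact hge
    have hzero : ∀ s : S, (s : G) ∉ T → Complex.normSq (extendByZero H ϑ (s : G)) = 0 := by
      intro s hs
      have h1 := (Finset.sum_eq_sum_iff_of_le fun s _ => hCle s).1 heq s (Finset.mem_univ s)
      by_contra h0
      have h2 := mul_right_cancel₀ h0 h1
      apply hs
      refine ⟨s.2, fun k hk => ?_⟩
      have h3 : (Finset.univ.filter fun k : K => (k : G)⁻¹ * s * k ∈ H).card = Fintype.card K := by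
        rw [← Nat.card_eq_fintype_card, hcardK]; exact_mod_cast h2
      have h4 := (Finset.card_eq_iff_eq_univ _).1 h3
      have h5 := Finset.ext_iff.1 h4 ⟨k, hk⟩
      simpa using h5
    have hTeq : T = S := by
      refine Subgroup.eq_of_le_of_card_ge hTS (le_of_eq ?_)
      have h1 : (Nat.card S : ℝ) = Nat.card T := by
        rw [← hSsum, ← hTsum, ← Finset.sum_subtype (Finset.univ.filter fun g : G => g ∈ S)
            (fun g => by simp) (fun g => Complex.normSq (extendByZero H ϑ g)),
          ← Finset.sum_subtype (Finset.univ.filter fun g : G => g ∈ T) (fun g => by simp)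
            (fun g => Complex.normSq (extendByZero H ϑ g))]
        refine (Finset.sum_subset (fun x hx => ?_) fun x hx hx' => ?_).symm
        · simp only [Finset.mem_filter, Finset.mem_univ, true_and] at hx ⊢
          exact hTS hx
        · simp only [Finset.mem_filter, Finset.mem_univ, true_and] at hx hx'
          exact hzero ⟨x, hx⟩ hx'
      exact_mod_cast h1
    intro s hs k hk
    rw [← hTeq] at hs
    exact hs.2 k hk

end H15
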