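import Cfsg.Agent.H15.BergerLemmas
import Cfsg.Agent.H15.HomogeneousMain

/-!
# Berger's theorem: quasi-primitive characters of solvable groups are primitive

Induction on the index of a normal subgroup on which the character is scalar. After a central
cover, `χ = η ζ` above a chief factor `K/C` below a maximal subgroup `H`; on the preimage `Y`
of `H` the factor `ζ` is the product of the conjugate of `η` and the inducing character, and it is
quasi-primitive, hence primitive by induction; but `η` restricted to `Y` is induced.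
-/

set_option autoImplicit false
set_option maxHeartbeats 1000000

open Cfsg
open scoped ComplexConjugate Pointwise

namespace H15

universe u

/-- The inductive statement. -/
def BergerHolds (n : ℕ) : Prop :=
  ∀ (A : Type u) [Group A] [Fintype A] [Group.IsSolvable A] (Z : Subgroup A), Z.Normal →
    Z.index = n → ∀ χ : A → ℂ, IsIrrCharacter A χ → (∀ z ∈ Z, ‖χ z‖ = ‖χ 1‖) →
    (∀ N : Subgroup A, N.Normal → Z ≤ N → IsHom χ N) →
    ∀ T : Subgroup A, T ≠ ⊤ → Z ≤ T → ∀ ψ : T → ℂ, IsCharacter T ψ → indFun T ψ ≠ χ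

section Chief

variable {G : Type u} [Group G] [Fintype G]

theorem exists_chief_complement [Group.IsSolvable G] (C H : Subgroup G) [C.Normal] (hCH : C ≤ H)
    (hmax : IsCoatom H) (hcore : ∀ M : Subgroup G, M.Normal → M ≤ H → M ≤ C) :
    ∃ (K : Subgroup G) (p a : ℕ), K.Normal ∧ C ≤ K ∧ p.Prime ∧ a ≠ 0 ∧ K ⊔ H = ⊤ ∧ K ⊓ H = C ∧
      Nat.card K = Nat.card C * p ^ a ∧ H.index = p ^ a ∧
      ∀ M : Subgroup G, M.Normal → C ≤ M → M ≤ K → M = C ∨ M = K := by
  classical
  haveI : Nontrivial (G ⧸ C) :=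
    QuotientGroup.nontrivial_iff.2 fun h => hmax.1 (top_le_iff.1 (h ▸ hCH))
  obtain ⟨K', p, hK'n, hp, hK'0, hK'pow, hK'ab, hK'min⟩ :=
    exists_minimal_normal_elementary (G := G ⧸ C)
  set K := K'.comap (QuotientGroup.mk' C) with hK
  haveI hKn : K.Normal := hK'n.comap _
  have hCK : C ≤ K := fun x hx => by
    show (x : G ⧸ C) ∈ K'
    rw [(QuotientGroup.eq_one_iff x).2 hx]
    exact K'.one_mem
  have hKH : K ⊔ H = ⊤ := by
    refine hmax.2 _ (lt_of_le_of_ne le_sup_right fun h => hK'0 ?_)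
    have hKC : K ≤ C := hcore K hKn (h.symm ▸ le_sup_left)
    rw [Subgroup.eq_bot_iff_forall]
    intro x hx
    obtain ⟨g, rfl⟩ := QuotientGroup.mk_surjective x
    exact (QuotientGroup.eq_one_iff g).2 (hKC hx)
  have hinf : K ⊓ H = C := by
    refine le_antisymm ?_ (le_inf hCK hCH)
    refine hcore _ ?_ inf_le_right
    rw [← Subgroup.normalizer_eq_top_iff, eq_top_iff, ← hKH, sup_le_iff]
    refine ⟨Subgroup.le_normalizer_iff.2 fun k hk x hx => ?_,
      Subgroup.le_normalizer_iff.2 fun y hy x hx =>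
        ⟨hKn.conj_mem x hx.1 y, H.mul_mem (H.mul_mem hy hx.2) (H.inv_mem hy)⟩⟩
    have hc : k * x * k⁻¹ * x⁻¹ ∈ C := by
      rw [← QuotientGroup.eq_one_iff]
      simp only [QuotientGroup.mk_mul, QuotientGroup.mk_inv]
      rw [hK'ab (k : G ⧸ C) hk (x : G ⧸ C) hx.1]
      group
    rw [show k * x * k⁻¹ = k * x * k⁻¹ * x⁻¹ * x by group]
    exact ⟨K.mul_mem (hCK hc) hx.1, H.mul_mem (hCH hc) hx.2⟩
  obtain ⟨a, ha⟩ := card_eq_prime_pow_of_exponent K' hp hK'pow
  have hcardK : Nat.card K = Nat.card C * p ^ a := by rw [← ha]; exact card_comap_mk C K'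
  refine ⟨K, p, a, hKn, hCK, hp, ?_, hKH, hinf, hcardK, ?_, ?_⟩
  · rintro rfl
    exact hK'0 (Subgroup.card_eq_one.1 (by simpa using ha))
  · have h := sum_eq_of_complement K H C hKH hinf (fun _ => (1 : ℂ)) (fun _ _ _ => rfl)
    simp only [Finset.sum_const, Finset.card_univ, nsmul_eq_mul, mul_one,
      ← Nat.card_eq_fintype_card] at h
    have h2 : Nat.card C * Nat.card G = Nat.card H * Nat.card K := by exact_mod_cast h
    rw [← H.card_mul_index, hcardK] at h2
    have h3 : Nat.card C * Nat.card H * H.index = Nat.card C * Nat.card H * p ^ a := by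
      rw [mul_assoc, h2]; ring
    exact Nat.eq_of_mul_eq_mul_left (Nat.mul_pos Nat.card_pos Nat.card_pos) h3
  · intro M hM hCM hMK
    haveI := hM
    have hcomap : (M.map (QuotientGroup.mk' C)).comap (QuotientGroup.mk' C) = M :=
      Subgroup.comap_map_eq_self (by rw [QuotientGroup.ker_mk']; exact hCM)
    rcases hK'min (M.map (QuotientGroup.mk' C)) (hM.map _ (QuotientGroup.mk'_surjective C))
      (Subgroup.map_le_iff_le_comap.2 hMK) with h | h
    · refine Or.inl ?_
      rw [← hcomap, h]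
      exact QuotientGroup.ker_mk' C
    · exact Or.inr (by rw [← hcomap, h])

/-- A normal subgroup above a minimal `K/C` that is a `p`-group modulo `C` centralises it. -/
theorem commutator_mem_of_pow (C K N : Subgroup G) [C.Normal] [hKn : K.Normal] [hNn : N.Normal]
    (hCK : C ≤ K) (hKN : K ≤ N) {p j : ℕ} (hp : p.Prime) (hcard : Nat.card N = Nat.card C * p ^ j)
    (hKC : K ≠ C) (hmin : ∀ M : Subgroup G, M.Normal → C ≤ M → M ≤ K → M = C ∨ M = K)
    {k : G} (hk : k ∈ K) {s : G} (hs : s ∈ N) : k⁻¹ * s * k * s⁻¹ ∈ C := by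
  haveI := Fact.mk hp
  set NC := N.map (QuotientGroup.mk' C) with hNC
  set KC := K.map (QuotientGroup.mk' C) with hKCdef
  haveI : NC.Normal := hNn.map _ (QuotientGroup.mk'_surjective C)
  haveI : KC.Normal := hKn.map _ (QuotientGroup.mk'_surjective C)
  have hcomap : ∀ M : Subgroup G, C ≤ M →
      (M.map (QuotientGroup.mk' C)).comap (QuotientGroup.mk' C) = M := fun M hM =>
    Subgroup.comap_map_eq_self (by rw [QuotientGroup.ker_mk']; exact hM)
  have hpg : IsPGroup p NC := by
    refine IsPGroup.of_card (n := j) ?_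
    have h := card_comap_mk C NC
    rw [hcomap N (hCK.trans hKN), hcard] at h
    exact (Nat.eq_of_mul_eq_mul_left Nat.card_pos h).symm
  have hne : KC.subgroupOf NC ≠ ⊥ := fun h => hKC (by
    refine le_antisymm (fun x hx => ?_) hCK
    have : (⟨(x : G ⧸ C), x, hKN hx, rfl⟩ : NC) ∈ KC.subgroupOf NC := ⟨x, hx, rfl⟩
    rw [h, Subgroup.mem_bot] at this
    exact (QuotientGroup.eq_one_iff x).1 (congrArg Subtype.val this))
  have hmeet := H6.inf_center_ne_bot hpg hne
  set M := (KC ⊓ Subgroup.centralizer (NC : Set (G ⧸ C))).comap (QuotientGroup.mk' C) with hM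
  have hMK : M = K := by
    refine (hmin M inferInstance (fun x hx => ?_) ?_).resolve_left fun h => hmeet ?_
    · show (x : G ⧸ C) ∈ KC ⊓ Subgroup.centralizer (NC : Set (G ⧸ C))
      rw [(QuotientGroup.eq_one_iff x).2 hx]
      exact Subgroup.one_mem _
    · intro x hx
      rw [← hcomap K hCK]
      exact hx.1
    · rw [Subgroup.eq_bot_iff_forall]
      rintro z ⟨hz, hzc⟩
      obtain ⟨g, hg⟩ := QuotientGroup.mk_surjective (z : G ⧸ C)
      have hgM : g ∈ M := by
        show (g : G ⧸ C) ∈ KC ⊓ Subgroup.centralizer (NC : Set (G ⧸ C))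
        rw [hg]
        exact ⟨hz, Subgroup.mem_centralizer_iff.2 fun y hy =>
          congrArg Subtype.val (Subgroup.mem_center_iff.1 hzc ⟨y, hy⟩)⟩
      rw [h] at hgM
      apply Subtype.ext
      show (z : G ⧸ C) = 1
      rw [← hg]
      exact (QuotientGroup.eq_one_iff g).2 hgM
  rw [← hMK] at hk
  have hk2 : (k : G ⧸ C) ∈ Subgroup.centralizer (NC : Set (G ⧸ C)) := hk.2
  have hc := Subgroup.mem_centralizer_iff.1 hk2 (s : G ⧸ C) ⟨s, hs, rfl⟩
  rw [← QuotientGroup.eq_one_iff]
  simp only [QuotientGroup.mk_mul, QuotientGroup.mk_inv]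
  rw [mul_assoc (k : G ⧸ C)⁻¹, hc]
  group

end Chief

theorem irr_of_indFun_irr {G : Type u} [Group G] [Fintype G] (H : Subgroup G) {ϑ : H → ℂ}
    (hϑ : IsCharacter H ϑ) (hind : IsIrrCharacter G (indFun H ϑ)) : IsIrrCharacter H ϑ := by
  classical
  obtain ⟨m, hm⟩ := H12.IsCharacter.exists_mult hϑ
  rw [hm, H12.indFun_sum] at hind
  simp only [H12.indFun_smul] at hind
  obtain ⟨c, hc, hz⟩ := eq_single_of_sum_irr (fun ψ : IrrCharacter H => indFun H (ψ : H → ℂ)) m
    (fun ψ => H13.isCharacter_indFun H (H12.isCharacter_irr ψ))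
    (fun ψ => by
      rw [H13.indFun_apply_one]
      exact mul_ne_zero (Nat.cast_ne_zero.2 Subgroup.index_ne_zero_of_finite)
        (H12.irr_apply_one_ne_zero ψ)) hind
  rw [hm, Finset.sum_eq_single c (fun ψ _ hψ => by rw [hz ψ hψ, Nat.cast_zero, zero_smul])
    (by simp), hc, Nat.cast_one, one_smul]
  exact c.2

theorem norm_eq_one_of_linear {A : Type u} [Group A] [Finite A] {θ : A → ℂ} (hθ : IsCharacter A θ)
    (h1 : θ 1 = 1) (a : A) : ‖θ a‖ = 1 := by
  obtain ⟨f, hf⟩ := H12.exists_monoidHom_of_apply_one_eq_one hθ h1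
  have hfa : θ a = (f a : ℂ) := by first | exact congrFun hf a | exact (congrFun hf a).symm
  rw [hfa]
  exact H12.norm_eq_one_of_pow_eq_one (orderOf_pos a).ne'
    (by rw [← Units.val_pow_eq_pow_val, ← map_pow, pow_orderOf_eq_one, map_one, Units.val_one])

theorem solvable_of_central_ker {E G : Type u} [Group E] [Group G] [Group.IsSolvable G] (π : E →* G)
    (hcent : ∀ x, π x = 1 → x ∈ Subgroup.center E) : Group.IsSolvable E := by
  haveI : Group.IsSolvable π.ker := Group.isSolvable_of_comm fun a b =>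
    Subtype.ext (Subgroup.mem_center_iff.1 (hcent b b.2) a)
  exact Group.isSolvable_of_ker_le_range π.ker.subtype π (by rw [Subgroup.range_subtype])

/-- The step: the scalar subgroup is the core of a maximal subgroup. -/
theorem berger_step {G : Type u} [Group G] [Fintype G] [Group.IsSolvable G] (C H : Subgroup G)
    [C.Normal] (hCH : C ≤ H) (hmax : IsCoatom H)
    (hcore : ∀ M : Subgroup G, M.Normal → M ≤ H → M ≤ C)
    {χ : G → ℂ} (hχ : IsIrrCharacter G χ) (hsc : ∀ c ∈ C, ‖χ c‖ = ‖χ 1‖)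
    (hQP : ∀ N : Subgroup G, N.Normal → C ≤ N → IsHom χ N)
    {ϑ : H → ℂ} (hϑ : IsIrrCharacter H ϑ) (hind : indFun H ϑ = χ)
    (IH : ∀ m < C.index, BergerHolds.{u} m) : False := by
  classical
  have hχc := H12.isCharacter_of_isIrrCharacter hχ
  have hϑc := H12.isCharacter_of_isIrrCharacter hϑ
  have hχcl := H12.IsCharacter.isClassFunction hχc
  obtain ⟨K, p, a, hKn, hCK, hp, ha0, hKH, hinf, hcardK, hindex, hKmin⟩ :=
    exists_chief_complement C H hCH hmax hcore
  haveI := hKn
  set q := p ^ a with hq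
  have hq1 : 1 < q := Nat.one_lt_pow ha0 hp.one_lt
  obtain ⟨β, e', hβ, he⟩ := hQP K hKn hCK
  set d := H12.degree χ with hd
  set e := H12.degree β with he_def
  have hd1 : χ 1 = d := H12.IsCharacter.apply_one_eq_degree hχc
  have hβ1 : β 1 = e := H12.IsCharacter.apply_one_eq_degree (H12.isCharacter_of_isIrrCharacter hβ)
  have he'e : e' * e = d := by
    have h1 := congrFun he 1
    simp only [OneMemClass.coe_one, Pi.smul_apply, smul_eq_mul, hd1, hβ1] at h1
    exact_mod_cast h1.symm
  have hdpos : 0 < d := H12.irr_degree_pos (⟨χ, hχ⟩ : IrrCharacter G)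
  have he'0 : e' ≠ 0 := by rintro rfl; rw [zero_mul] at he'e; omega
  have hepos : 0 < e := H12.irr_degree_pos (⟨β, hβ⟩ : IrrCharacter K)
  have he2 : e ^ 2 = q := by
    have hvan : ∀ x : K, (x : G) ∉ C → χ x = 0 := by
      intro x hx
      rw [← hind, indFun_eq_sum_complement K H C hKH hinf (H12.IsCharacter.isClassFunction hϑc),
        Finset.sum_eq_zero, mul_zero]
      intro k _
      refine H12.extendByZero_of_notMem _ _ fun hm => hx ?_
      have hmC : (k : G)⁻¹ * x * k ∈ C :=
        hinf.le ⟨K.mul_mem (K.mul_mem (K.inv_mem k.2) x.2) k.2, hm⟩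
      have := Subgroup.Normal.conj_mem ‹C.Normal› _ hmC k
      rwa [show (k : G) * ((k : G)⁻¹ * x * k) * (k : G)⁻¹ = x by group] at this
    have h1 : ∑ x : K, Complex.normSq (χ x) = ∑ c : C, Complex.normSq (χ c) := by
      rw [← sum_normSq_mem K χ, ← sum_normSq_mem C χ]
      refine (Finset.sum_subset (fun x hx => ?_) fun x hx hx' => ?_).symm
      · simp only [Finset.mem_filter, Finset.mem_univ, true_and] at hx ⊢
        exact hCK hx
      · simp only [Finset.mem_filter, Finset.mem_univ, true_and] at hx hx'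
        rw [hvan ⟨x, hx⟩ hx', map_zero]
    have h2 : ∀ x : K, χ x = (e' : ℂ) * β x := fun x => congrFun he x
    have h3 : ∀ c : C, Complex.normSq (χ c) = (d : ℝ) * d := fun c => by
      rw [Complex.normSq_eq_norm_sq, hsc c c.2, hd1, Complex.norm_natCast, sq]
    simp only [h2, Complex.normSq_mul, Complex.normSq_natCast, ← Finset.mul_sum, sum_normSq_irr' hβ,
      h3, Finset.sum_const, Finset.card_univ, nsmul_eq_mul, ← Nat.card_eq_fintype_card, hcardK] at h1
    have h4' : e' * e' * (Nat.card C * q) = d * (Nat.card C * d) := by exact_mod_cast h1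
    have h4 : e' * e' * (Nat.card C * q) = Nat.card C * (d * d) := by rw [h4']; ring
    rw [← he'e] at h4
    have h5 : (e' * e' * Nat.card C) * q = (e' * e' * Nat.card C) * (e * e) := by linarith
    rw [sq]
    exact (Nat.eq_of_mul_eq_mul_left (Nat.mul_pos (Nat.mul_pos (by omega) (by omega)) Nat.card_pos)
      h5).symm
  have he1 : 1 < e := by
    by_contra h
    have : e = 1 := by omega
    rw [this, one_pow] at he2
    omega
  have hϑ1 : d = q * H12.degree ϑ := by
    have h1 := congrFun hind 1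
    rw [H13.indFun_apply_one, hindex, H12.IsCharacter.apply_one_eq_degree hϑc, hd1] at h1
    exact_mod_cast h1.symm
  have hinv : ∀ g : G, H13.twist K g β = β := by
    intro g
    have h1 := H13.twist_res K hχcl g
    rw [he] at h1
    exact smul_right_injective _ (Nat.cast_ne_zero.2 he'0 : (e' : ℂ) ≠ 0)
      (by simpa [H13.twist, funext_iff] using h1)
  -- the kernel of `β` lies in `C`
  have hker : ∀ x : K, β x = β 1 → (x : G) ∈ C := by
    intro x hx
    have hχx : χ x = χ 1 := by
      have h1 := congrFun he x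
      have h2 := congrFun he 1
      simp only [Pi.smul_apply, OneMemClass.coe_one] at h1 h2
      rw [h1, h2, hx]
    haveI := H12.charKer_normal hχc
    set D := (H12.charKer χ hχc ⊓ K) ⊔ C with hD
    have hDK : D ≤ K := sup_le inf_le_right hCK
    rcases hKmin D inferInstance le_sup_right hDK with h | h
    · rw [← h]
      exact Subgroup.mem_sup_left ⟨(H12.mem_charKer hχc).2 hχx, x.2⟩
    · exfalso
      have hall : ∀ y : K, ‖β y‖ = (e : ℕ) := by
        intro y
        obtain ⟨u, hu, c, hc, huc⟩ := Subgroup.mem_sup_of_normal_left.1 (h.symm ▸ y.2 : (y : G) ∈ D)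
        have h1 : χ y = χ c := by
          rw [← huc]
          exact H12.IsCharacter.mul_left_of_eq_degree hχc ((H12.mem_charKer hχc).1 hu.1) c
        have h2 : χ (y : G) = (e' : ℂ) * β y := congrFun he y
        have h3 : (e' : ℝ) * ‖β y‖ = (e' : ℝ) * e := by
          rw [← Complex.norm_natCast e', ← norm_mul, ← h2, h1, hsc c hc, hd1, Complex.norm_natCast,
            Complex.norm_natCast, ← Nat.cast_mul, he'e]
        exact mul_left_cancel₀ (Nat.cast_ne_zero.2 he'0) h3
      have := isIrrCharacter_scalar_linear hβ1 hβ hall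
      omega
  -- a chief factor `N/K`
  have hKtop : K ≠ ⊤ := by
    intro hK'
    have hsurj : Function.Surjective K.subtype := fun g => ⟨⟨g, hK' ▸ Subgroup.mem_top g⟩, rfl⟩
    have hirr : IsIrrCharacter K (fun x : K => χ x) := H12.IsIrrCharacter.comp_surjective hχ hsurj
    have h1 := H12.classInner_irr_self (⟨_, hirr⟩ : IrrCharacter K)
    simp only [he, H12.classInner_smul_left, H12.classInner_smul_right,
      show classInner β β = 1 from H12.classInner_irr_self (⟨β, hβ⟩ : IrrCharacter K),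
      Complex.conj_natCast, mul_one] at h1
    have h2 : e' * e' = 1 := by exact_mod_cast h1
    have h3 : e' = 1 := Nat.eq_one_of_mul_eq_one_right h2
    rw [h3, one_mul, hϑ1] at he'e
    have h4 : e ≤ 1 := by
      have h5 : e * (e * H12.degree ϑ) = e * 1 := by rw [← mul_assoc, ← sq, he2, mul_one, he'e]
      have h6 := Nat.eq_of_mul_eq_mul_left (by omega) h5
      exact (Nat.eq_one_of_mul_eq_one_right h6).le
    omega
  haveI : Nontrivial (G ⧸ K) := QuotientGroup.nontrivial_iff.2 hKtop
  obtain ⟨N', ℓ, hN'n, hℓ, hN'0, hN'pow, -, -⟩ := exists_minimal_normal_elementary (G := G ⧸ K)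
  set N := N'.comap (QuotientGroup.mk' K) with hN
  haveI hNn : N.Normal := hN'n.comap _
  have hKN : K ≤ N := fun x hx => by
    show (x : G ⧸ K) ∈ N'
    rw [(QuotientGroup.eq_one_iff x).2 hx]
    exact N'.one_mem
  obtain ⟨b, hb⟩ := card_eq_prime_pow_of_exponent N' hℓ hN'pow
  have hcardN : Nat.card N = Nat.card K * ℓ ^ b := by rw [← hb]; exact card_comap_mk K N'
  have hnotcent : ¬ ∀ s ∈ N ⊓ H, ∀ k ∈ K, k⁻¹ * s * k ∈ H := by
    intro hcent
    haveI : (N ⊓ H).Normal := by
      rw [← Subgroup.normalizer_eq_top_iff, eq_top_iff, ← hKH, sup_le_iff]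
      refine ⟨Subgroup.le_normalizer_iff.2 fun k hk x hx => ?_,
        Subgroup.le_normalizer_iff.2 fun y hy x hx =>
          ⟨hNn.conj_mem x hx.1 y, H.mul_mem (H.mul_mem hy hx.2) (H.inv_mem hy)⟩⟩
      refine ⟨hNn.conj_mem x hx.1 k, ?_⟩
      have := hcent x hx k⁻¹ (K.inv_mem hk)
      rwa [inv_inv] at this
    have hle : N ⊓ H ≤ C := hcore _ inferInstance inf_le_right
    have hNK : N ≤ K := by
      intro x hx
      obtain ⟨k, hk, y, hy, rfl⟩ := Subgroup.mem_sup_of_normal_left.1
        (hKH ▸ Subgroup.mem_top x : x ∈ K ⊔ H)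
      have hyN : y ∈ N := by
        have := N.mul_mem (N.inv_mem (hKN hk)) hx
        rwa [inv_mul_cancel_left] at this
      exact K.mul_mem hk (hCK (hle ⟨hyN, hy⟩))
    apply hN'0
    rw [Subgroup.eq_bot_iff_forall]
    intro x hx
    obtain ⟨g, rfl⟩ := QuotientGroup.mk_surjective x
    exact (QuotientGroup.eq_one_iff g).2 (hNK hx)
  have hℓp : ℓ ≠ p := by
    intro hlp
    subst hlp
    have hKC : K ≠ C := by
      intro h
      rw [h] at hcardK
      have : q = 1 := Nat.eq_of_mul_eq_mul_left Nat.card_pos (by rw [mul_one]; exact hcardK.symm)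
      omega
    refine hnotcent fun s hs k hk => ?_
    have hmem := commutator_mem_of_pow C K N hCK hKN (j := a + b) hp
      (by rw [hcardN, hcardK, hq, pow_add, mul_assoc]) hKC hKmin hk hs.1
    have := H.mul_mem (hCH hmem) hs.2
    rwa [inv_mul_cancel_right] at this
  -- a cover with an extension of `β`
  obtain ⟨n, ρ, hρ, hρc⟩ := id hβ
  haveI := hρ
  obtain ⟨E, _, _, π, ι, η, hπ, hπι, hnorm, hcentE, hη⟩ := exists_cover (ρ := ρ) (R := K)
    (fun g r => by
      rw [hρc]
      have := congrFun (hinv g) r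
      rw [H13.twist_apply] at this
      exact (congrArg β (Subtype.ext (by simp))).trans this)
  haveI := hnorm
  haveI : Fintype E := Fintype.ofFinite E
  haveI : Group.IsSolvable E := solvable_of_central_ker π hcentE
  have hinjι : Function.Injective ι := fun x y h => Subtype.ext (by rw [← hπι x, ← hπι y, h])
  let φK : K ≃* ι.range := MonoidHom.ofInjective hinjι
  haveI : Fintype ι.range := Fintype.ofFinite _
  haveI : Fintype (E ⧸ ι.range) := Fintype.ofFinite _
  haveI hηirr : η.IsIrreducible := isIrreducible_of_res (R := K) ι η hη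
  set ηc := η.character with hηc
  have hηcc : IsCharacter E ηc := H12.isCharacter_character η
  have hηι : ∀ k : K, ηc (ι k) = β k := by
    intro k
    rw [← hρc]
    simp only [hηc, Representation.character, hη]
  have hηe : ηc 1 = e := by rw [← map_one ι, hηι, hβ1]
  have hηR_eq : (fun m : ι.range => ηc m) = β ∘ φK.symm := by
    funext m
    obtain ⟨r, rfl⟩ := φK.surjective m
    rw [Function.comp_apply, MulEquiv.symm_apply_apply]
    exact hηι r
  have hηR : IsIrrCharacter ι.range (fun m : ι.range => ηc m) := by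
    rw [hηR_eq]; exact H13.isIrrCharacter_comp_equiv φK.symm hβ
  set X := χ ∘ π with hX
  have hXirr : IsIrrCharacter E X := H12.IsIrrCharacter.comp_surjective hχ hπ
  have hXres : (fun m : ι.range => X m) = (e' : ℂ) • (fun m : ι.range => ηc m) := by
    funext m
    obtain ⟨r, rfl⟩ := φK.surjective m
    show χ (π (ι r)) = (e' : ℂ) * ηc (ι r)
    rw [hπι, hηι]
    exact congrFun he r
  obtain ⟨b', hb'⟩ := H13.gallagher_exists ι.range hηcc hηR hXirr (by
    rw [hXres, H12.classInner_smul_left,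
      H12.classInner_irr_self (⟨_, hηR⟩ : IrrCharacter ι.range), mul_one]
    exact Nat.cast_ne_zero.2 he'0)
  set ζ : E → ℂ := ↑(H13.inflateIrr ι.range b') with hζ
  have hζc : IsCharacter E ζ := H12.isCharacter_irr _
  have hζR : ∀ r ∈ ι.range, ζ r = ζ 1 := fun r hr => H13.inflateIrr_kernel ι.range b' hr
  -- the group `Y`
  set Y := H.comap π with hY
  haveI : Fintype Y := Fintype.ofFinite Y
  haveI : Fintype H := Fintype.ofFinite H
  let πY : Y →* H := π.subgroupComap H
  have hπY : Function.Surjective πY := fun x => by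
    obtain ⟨y, hy⟩ := hπ x
    exact ⟨⟨y, by show π y ∈ H; rw [hy]; exact x.2⟩, Subtype.ext hy⟩
  set ϑ' : Y → ℂ := ϑ ∘ πY with hϑ'
  have hϑ'irr : IsIrrCharacter Y ϑ' := H12.IsIrrCharacter.comp_surjective hϑ hπY
  have hXind : indFun Y ϑ' = X := by
    rw [hX, ← hind]
    exact indFun_comap_surj π hπ H ϑ
  have hsplit : ∀ x : E, ∃ k : K, ∃ y : Y, x = ι k * y := by
    intro x
    obtain ⟨k, hk, y, hy, hxy⟩ := Subgroup.mem_sup_of_normal_left.1
      (hKH ▸ Subgroup.mem_top (π x) : π x ∈ K ⊔ H)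
    refine ⟨⟨k, hk⟩, ⟨(ι ⟨k, hk⟩)⁻¹ * x, ?_⟩, (mul_inv_cancel_left _ _).symm⟩
    show π _ ∈ H
    rw [map_mul, map_inv, hπι, ← hxy, inv_mul_cancel_left]
    exact hy
  set w : Y → ℂ := fun y => ηc y with hw
  have hwc : IsCharacter Y w := H12.IsCharacter.res hηcc Y
  set ζY : Y → ℂ := fun y => ζ y with hζY
  have hζYirr : IsIrrCharacter Y ζY := by
    refine H12.IsIrrCharacter.comp_surjective b'.2
      (f := (QuotientGroup.mk' ι.range).comp Y.subtype) fun v => ?_
    obtain ⟨x, rfl⟩ := QuotientGroup.mk_surjective v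
    obtain ⟨k, y, rfl⟩ := hsplit x
    refine ⟨y, ?_⟩
    show ((y : E) : E ⧸ ι.range) = ((ι k * (y : E) : E) : E ⧸ ι.range)
    rw [QuotientGroup.mk_mul, (QuotientGroup.eq_one_iff (N := ι.range) (ι k)).2 ⟨k, rfl⟩, one_mul]
  have hζ1 : ζ 1 = ((e * H12.degree ϑ : ℕ) : ℂ) := by
    have h1 := congrFun hb' 1
    rw [Pi.mul_apply, hηe, hX, Function.comp_apply, map_one, hd1, hϑ1, ← he2] at h1
    refine mul_right_cancel₀ (Nat.cast_ne_zero.2 hepos.ne' : (e : ℂ) ≠ 0) ?_
    rw [← h1]
    push_cast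
    ring
  set wbar : Y → ℂ := fun y => conj (w y) with hwbar
  have hwbarc : IsCharacter Y wbar := H12.IsCharacter.star hwc
  have hϑd : ϑ' 1 = H12.degree ϑ := by
    rw [hϑ', Function.comp_apply, map_one, H12.IsCharacter.apply_one_eq_degree hϑc]
  have hprod : wbar * ϑ' = ζY := by
    refine eq_of_classInner_ne_zero (H12.IsCharacter.mul hwbarc (H12.isCharacter_of_isIrrCharacter
      hϑ'irr)) hζYirr ?_ ?_
    · have h1 : classInner (fun y : Y => X y) ϑ' = 1 := by
        rw [← H13.classInner_indFun_right Y ϑ' (H12.IsCharacter.isClassFunction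
          (H12.isCharacter_of_isIrrCharacter hXirr)), hXind]
        exact H12.classInner_irr_self (⟨X, hXirr⟩ : IrrCharacter E)
      have h2 : (fun y : Y => X y) = w * ζY := by
        funext y
        rw [Pi.mul_apply, mul_comm]
        exact congrFun hb' (y : E)
      rw [h2, classInner_mul_left] at h1
      intro h0
      have h3 := congrArg conj h0
      rw [H12.conj_classInner, map_zero] at h3
      exact one_ne_zero (h1.symm.trans h3)
    · rw [Pi.mul_apply, hwbar, hϑd, hζY]
      show conj (ηc ((1 : Y) : E)) * _ = ζ ((1 : Y) : E)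
      rw [OneMemClass.coe_one, hηe, hζ1, Complex.conj_natCast, Nat.cast_mul]
  have hw1 : w 1 = e := by rw [hw]; simpa using hηe
  have hwirr : IsIrrCharacter Y w := by
    have h1 : IsIrrCharacter Y wbar := irr_left_of_mul_irr hwbarc
      (H12.isCharacter_of_isIrrCharacter hϑ'irr)
      (H12.irr_apply_one_ne_zero (⟨ϑ', hϑ'irr⟩ : IrrCharacter Y)) (hprod ▸ hζYirr)
    have h2 := H12.isIrrCharacter_conj h1
    simpa [hwbar, Function.comp_def] using h2
  -- scalars over `C`
  have hscal : ∀ z : E, π z ∈ C → ‖ζ z‖ = ‖ζ 1‖ ∧ ‖ηc z‖ = (e : ℕ) := by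
    intro z hz
    have h1 : ‖ζ z‖ * ‖ηc z‖ = ‖ζ 1‖ * e := by
      have h2 := congrFun hb' z
      have h3 := congrFun hb' 1
      rw [Pi.mul_apply] at h2 h3
      rw [← norm_mul, ← h2, hX, Function.comp_apply, hsc _ hz, ← map_one π,
        show χ (π 1) = X 1 from rfl, h3, norm_mul, hηe, Complex.norm_natCast]
    have h4 : ‖ζ z‖ ≤ ‖ζ 1‖ := by
      rw [H12.IsCharacter.apply_one_eq_degree hζc, Complex.norm_natCast]
      exact H12.IsCharacter.norm_le hζc z
    have h5 : ‖ηc z‖ ≤ (e : ℕ) := by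
      have := H12.IsCharacter.norm_le hηcc z
      have h6 := H12.IsCharacter.apply_one_eq_degree hηcc
      rw [hηe] at h6
      have h7 : e = H12.degree ηc := by exact_mod_cast h6
      rwa [← h7] at this
    have hζpos : 0 < ‖ζ 1‖ :=
      norm_pos_iff.2 (H12.irr_apply_one_ne_zero (H13.inflateIrr ι.range b'))
    have hepos' : (0 : ℝ) < (e : ℕ) := Nat.cast_pos.2 hepos
    constructor <;> nlinarith [norm_nonneg (ζ z), norm_nonneg (ηc z)]
  -- the scalar subgroup of `Y`
  set Z0 := (C.comap π).subgroupOf Y with hZ0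
  haveI : Z0.Normal := Subgroup.Normal.subgroupOf inferInstance Y
  have hQPY : ∀ M : Subgroup Y, M.Normal → Z0 ≤ M → IsHom ζY M := by
    intro M hM hZM
    set ME := M.map Y.subtype with hME
    set M' := ι.range ⊔ ME with hM'
    haveI hM'n : M'.Normal := by
      refine ⟨fun v hv g => ?_⟩
      obtain ⟨r, hr, m, hm, rfl⟩ := Subgroup.mem_sup_of_normal_left.1 hv
      obtain ⟨k, y, rfl⟩ := hsplit g
      obtain ⟨m₀, hm₀, rfl⟩ := hm
      set m₁ : E := (y : E) * (m₀ : E) * (y : E)⁻¹ with hm₁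
      have hm₁M : m₁ ∈ ME := ⟨y * m₀ * y⁻¹, hM.conj_mem m₀ hm₀ y, rfl⟩
      have h1 : (ι k * (y : E)) * r * (ι k * (y : E))⁻¹ ∈ ι.range := hnorm.conj_mem r hr _
      have h2 : ι k * (m₁ * (ι k)⁻¹ * m₁⁻¹) ∈ ι.range :=
        ι.range.mul_mem ⟨k, rfl⟩ (hnorm.conj_mem _ (ι.range.inv_mem ⟨k, rfl⟩) _)
      have h3 : (ι k * (y : E)) * (r * Y.subtype m₀) * (ι k * (y : E))⁻¹ =
          ((ι k * (y : E)) * r * (ι k * (y : E))⁻¹ * (ι k * (m₁ * (ι k)⁻¹ * m₁⁻¹))) * m₁ := by
        rw [hm₁, Subgroup.coe_subtype]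
        group
      rw [h3]
      exact Subgroup.mul_mem _ (Subgroup.mem_sup_left (ι.range.mul_mem h1 h2))
        (Subgroup.mem_sup_right hm₁M)
    set Ni := M'.map π with hNi
    have hCNi : C ≤ Ni := by
      intro c hc
      obtain ⟨x, rfl⟩ := hπ c
      exact ⟨x, Subgroup.mem_sup_right ⟨⟨x, hCH hc⟩, hZM hc, rfl⟩, rfl⟩
    obtain ⟨φ, f, hφ, hf⟩ := hQP Ni (hM'n.map π hπ) hCNi
    haveI : Fintype M' := Fintype.ofFinite M'
    haveI : Fintype M := Fintype.ofFinite M
    have hRM : ι.range ≤ M' := le_sup_left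
    obtain ⟨c, g, hcR, hc⟩ := homogeneous_div (ι.range.subgroupOf M')
      (η := fun x : M' => ηc x) (ζ := fun x : M' => ζ x) (φ := φ ∘ π.subgroupMap M')
      (H12.IsCharacter.res hηcc M')
      (by
        have h := H13.isIrrCharacter_comp_equiv (Subgroup.subgroupOfEquivOfLe hRM) hηR
        exact h)
      (H12.IsCharacter.res hζc M') (fun r hr => hζR _ hr)
      (H12.irr_apply_one_ne_zero (H13.inflateIrr ι.range b'))
      (H12.IsIrrCharacter.comp_surjective hφ (π.subgroupMap_surjective M')) f (by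
        funext x
        have h1 := congrFun hb' (x : E)
        exact h1.symm.trans (congrFun hf (π.subgroupMap M' x)))
    obtain ⟨c₁, hc₁⟩ := H13.exists_irr_of_le_kernel (ι.range.subgroupOf M') c.2 hcR
    let j : M →* M' := (Y.subtype.comp M.subtype).codRestrict M' fun m =>
      Subgroup.mem_sup_right ⟨(m : Y), m.2, rfl⟩
    have hj : Function.Surjective ((QuotientGroup.mk' (ι.range.subgroupOf M')).comp j) := by
      intro v
      obtain ⟨⟨x, hx⟩, rfl⟩ := QuotientGroup.mk_surjective v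
      obtain ⟨r, hr, m, hm, hrm⟩ := Subgroup.mem_sup_of_normal_left.1 hx
      obtain ⟨m₀, hm₀, rfl⟩ := hm
      refine ⟨⟨m₀, hm₀⟩, ?_⟩
      simp only [MonoidHom.comp_apply, QuotientGroup.mk'_apply]
      rw [QuotientGroup.eq, Subgroup.mem_subgroupOf]
      show (m₀ : E)⁻¹ * x ∈ ι.range
      rw [← hrm, Subgroup.coe_subtype, ← mul_assoc]
      exact hnorm.conj_mem' r hr _
    refine ⟨_, g, H12.IsIrrCharacter.comp_surjective c₁.2 hj, ?_⟩
    funext m
    have h1 := congrFun hc (j m)
    simp only [Pi.smul_apply, smul_eq_mul] at h1 ⊢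
    rw [show ζY (m : Y) = ζ ((j m : M') : E) from rfl, h1, hc₁]
    rfl
  -- a normal subgroup of `Y` on which `w` is not homogeneous
  set SY := (N.comap π).subgroupOf Y with hSY
  haveI : SY.Normal := Subgroup.Normal.subgroupOf inferInstance Y
  haveI : Fintype SY := Fintype.ofFinite SY
  have hZS : Z0 ≤ SY := fun y hy => hKN (hCK hy)
  obtain ⟨θ, hθ⟩ := H13.exists_constituent SY hwc (H12.irr_ne_zero ⟨w, hwirr⟩)
  have hinert : H13.inertia SY (θ : SY → ℂ) ≠ ⊤ := by
    intro htop
    apply hnotcent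
    have hfix : ∀ y : Y, H13.twist SY y (θ : SY → ℂ) = θ := fun y =>
      (H13.mem_inertia SY).1 (htop ▸ Subgroup.mem_top y)
    obtain ⟨f, hf⟩ := H12.IsCharacter.classInner_nat (H12.IsCharacter.res hwc SY)
      (H12.isCharacter_irr θ)
    have hres : (fun s : SY => w s) = (f : ℂ) • (θ : SY → ℂ) := by
      rw [← hf]
      have h := H13.clifford_res SY hwirr θ.2 hθ {θ} (fun ψ => by
        rw [Finset.mem_singleton]
        constructor
        · rintro rfl; exact ⟨1, hfix 1⟩
        · rintro ⟨x, hx⟩; exact Subtype.ext (hx.symm.trans (hfix x)))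
      rwa [Finset.sum_singleton] at h
    set t := H12.degree (θ : SY → ℂ) with ht
    have hft : f * t = e := by
      have h1 := congrFun hres 1
      simp only [OneMemClass.coe_one, Pi.smul_apply, smul_eq_mul, hw1, H12.irr_apply_one] at h1
      exact_mod_cast h1.symm
    have hf0 : f ≠ 0 := by rintro rfl; rw [zero_mul] at hft; omega
    have hdvd : t ∣ (Z0.subgroupOf SY).index := by
      refine degree_dvd_index_of_scalar θ.2 _ (fun z hz => ?_) (H12.irr_apply_one θ)
      have h1 : ηc ((z : Y) : E) = (f : ℂ) * (θ : SY → ℂ) z := congrFun hres z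
      have h2 := (hscal ((z : Y) : E) hz).2
      rw [h1, norm_mul, Complex.norm_natCast, ← hft, Nat.cast_mul] at h2
      rw [H12.irr_apply_one, Complex.norm_natCast]
      exact mul_left_cancel₀ (Nat.cast_ne_zero.2 hf0) h2
    have hidx : (Z0.subgroupOf SY).index = ℓ ^ b := by
      have h1 : Z0 = (C.subgroupOf H).comap πY := rfl
      have h2 : SY = (N.subgroupOf H).comap πY := rfl
      show Z0.relIndex SY = ℓ ^ b
      rw [h1, h2, Subgroup.relIndex_comap, Subgroup.map_comap_eq_self_of_surjective hπY]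
      have h3 := ((C.subgroupOf H).subgroupOf (N.subgroupOf H)).card_mul_index
      have h4 : C.subgroupOf H ≤ N.subgroupOf H := fun x hx => hKN (hCK hx)
      rw [Nat.card_congr (Subgroup.subgroupOfEquivOfLe h4).toEquiv,
        Nat.card_congr (Subgroup.subgroupOfEquivOfLe hCH).toEquiv] at h3
      have h5 : Nat.card (N.subgroupOf H) = Nat.card C * ℓ ^ b := by
        have h6 := (N.subgroupOf H).card_mul_index
        have h7 : (N.subgroupOf H).index = N.index := by
          show N.relIndex H = N.index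
          rw [← Subgroup.relIndex_sup_left H N, ← Subgroup.relIndex_top_right]
          congr 1
          exact top_le_iff.1 (hKH ▸ sup_le_sup_right hKN H)
        have h8 := N.card_mul_index
        rw [← H.card_mul_index, hindex, ← h6, h7, hcardN, hcardK] at h8
        have h9 : (Nat.card C * ℓ ^ b) * (q * N.index) =
            Nat.card (N.subgroupOf H) * (q * N.index) := by linarith
        exact (Nat.eq_of_mul_eq_mul_right (Nat.mul_pos (by omega)
          (Nat.pos_of_ne_zero Subgroup.index_ne_zero_of_finite)) h9).symm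
      rw [h5] at h3
      exact Nat.eq_of_mul_eq_mul_left Nat.card_pos h3
    have ht1 : t = 1 := by
      have htq : t ∣ p ^ a := by
        rw [← hq, ← he2, sq]; exact (dvd_of_mul_left_eq f hft).mul_right e
      exact Nat.eq_one_of_dvd_coprimes (((Nat.coprime_primes hp hℓ).2 (Ne.symm hℓp)).pow a b) htq
        (hidx ▸ hdvd)
    intro s hs k hk
    obtain ⟨y, hy⟩ := hπY ⟨s, hs.2⟩
    have hys : π (y : E) = s := congrArg Subtype.val hy
    have hyS : y ∈ SY := by
      show π (y : E) ∈ N
      rw [hys]; exact hs.1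
    have hnormy : ‖ηc (y : E)‖ = (e : ℕ) := by
      have h1 : ηc (y : E) = (f : ℂ) * (θ : SY → ℂ) ⟨y, hyS⟩ := congrFun hres ⟨y, hyS⟩
      rw [h1, norm_mul, norm_eq_one_of_linear (H12.isCharacter_irr θ)
        (by rw [H12.irr_apply_one, ← ht, ht1, Nat.cast_one]), Complex.norm_natCast, ← hft, ht1,
        mul_one, mul_one]
    have hne : (e : ℕ) = Module.finrank ℂ (Fin n → ℂ) := by
      have h1 := hηe
      rw [hηc, Representation.char_one] at h1
      exact_mod_cast h1.symm
    obtain ⟨sc, hsc'⟩ := H12.exists_scalar_of_norm_eq η (y : E) (by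
      show ‖η.character (y : E)‖ = _
      rw [← hηc, hnormy, hne])
    set k₀ : K := ⟨k⁻¹, K.inv_mem hk⟩ with hk₀
    obtain ⟨k₁, hk₁⟩ : (y : E) * ι k₀ * (y : E)⁻¹ ∈ ι.range := hnorm.conj_mem _ ⟨k₀, rfl⟩ _
    have hρeq : ρ k₁ = ρ k₀ := by
      rw [← hη, ← hη, hk₁, map_mul, map_mul, hsc']
      have h1 : η (y : E) * η (y : E)⁻¹ = 1 := by rw [← map_mul, mul_inv_cancel, map_one]
      rw [hsc'] at h1
      rw [show (LinearMap.id : Module.End ℂ (Fin n → ℂ)) = 1 from rfl, smul_mul_assoc,
        one_mul] at h1 ⊢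
      rw [smul_mul_assoc, ← mul_smul_comm, h1, mul_one]
    have hmem : ((k₁ * k₀⁻¹ : K) : G) ∈ C := hker _ (by
      rw [← hρc]
      simp only [Representation.character]
      rw [map_mul, hρeq, ← map_mul, mul_inv_cancel])
    have hk₁' : (k₁ : G) = s * k⁻¹ * s⁻¹ := by
      rw [← hπι k₁, hk₁, map_mul, map_mul, map_inv, hys, hπι]
    rw [Subgroup.coe_mul, Subgroup.coe_inv, hk₁', hk₀] at hmem
    have h3 := H.mul_mem (H.inv_mem (hCH hmem)) hs.2
    simpa [mul_assoc] using h3
  -- contradiction with the induction hypothesis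
  set T := H13.inertia SY (θ : SY → ℂ) with hT
  haveI : Fintype T := Fintype.ofFinite T
  have hST : SY ≤ T := H13.le_inertia SY (H12.irr_isClassFunction θ)
  obtain ⟨ψ, hψ, -, hψind⟩ := H13.clifford_correspondence_exists SY θ.2 rfl hST hwirr hθ
  have hZlt : Z0.index < C.index := by
    have h1 : Z0 = (C.subgroupOf H).comap πY := rfl
    rw [h1, Subgroup.index_comap_of_surjective _ hπY, ← Subgroup.relIndex_mul_index hCH, hindex]
    exact lt_mul_of_one_lt_right (Nat.pos_of_ne_zero Subgroup.index_ne_zero_of_finite) hq1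
  refine IH _ hZlt Y Z0 inferInstance rfl ζY hζYirr
    (fun z hz => ?_) hQPY T hinert (hZS.trans hST)
    ((fun t => conj (ψ t)) * (fun t : T => ϑ' t)) ?_ ?_
  · exact (hscal (z : E) hz).1
  · exact H12.IsCharacter.mul (H12.IsCharacter.star (H12.isCharacter_of_isIrrCharacter hψ))
      (H12.IsCharacter.res (H12.isCharacter_of_isIrrCharacter hϑ'irr) T)
  · rw [show ((fun t => conj (ψ t)) * (fun t : T => ϑ' t)) =
        fun t : T => conj (ψ t) * ϑ' t from rfl,
      H12.indFun_mul_res T _ (H12.IsCharacter.isClassFunction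
        (H12.isCharacter_of_isIrrCharacter hϑ'irr)), indFun_conj, hψind, ← hprod, hwbar]

/-- Berger's theorem, relative form. -/
theorem bergerHolds (n : ℕ) : BergerHolds.{u} n := by
  induction n using Nat.strong_induction_on with
  | h n IH =>
  intro A _ _ _ Z hZ hn χ hχ hsc hQP T hT hZT ψ hψ hind
  classical
  haveI := hZ
  obtain h | ⟨H, hmax, hTH⟩ := eq_top_or_exists_le_coatom T
  · exact hT h
  haveI : Fintype H := Fintype.ofFinite H
  set ψ' : T.subgroupOf H → ℂ :=
    fun x => ψ ⟨((x : H) : A), Subgroup.mem_subgroupOf.mp x.2⟩ with hψ'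
  set ϑ := indFun (T.subgroupOf H) ψ' with hϑdef
  have hϑc : IsCharacter H ϑ := by
    refine H13.isCharacter_indFun _ ?_
    exact H12.IsCharacter.comp hψ (Subgroup.subgroupOfEquivOfLe hTH).toMonoidHom
  have hϑind : indFun H ϑ = χ := by rw [hϑdef, hψ', H12.indFun_trans T H hTH, hind]
  have hϑ : IsIrrCharacter H ϑ := irr_of_indFun_irr H hϑc (hϑind ▸ hχ)
  set C := H.normalCore with hC
  have hCH : C ≤ H := H.normalCore_le
  have hZC : Z ≤ C := Subgroup.normal_le_normalCore.2 (hZT.trans hTH)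
  have hCn : C.index ≤ n := hn ▸ Subgroup.index_antitone hZC
  obtain ⟨α, f, hα, hf⟩ := hQP C inferInstance hZC
  have hχc := H12.isCharacter_of_isIrrCharacter hχ
  have hf0 : f ≠ 0 := by
    rintro rfl
    have := congrFun hf 1
    simp only [Nat.cast_zero, zero_smul, Pi.zero_apply, OneMemClass.coe_one] at this
    exact H12.irr_apply_one_ne_zero (⟨χ, hχ⟩ : IrrCharacter A) this
  have hinv : ∀ g : A, H13.twist C g α = α := by
    intro g
    have h1 := H13.twist_res C (H12.IsCharacter.isClassFunction hχc) g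
    rw [hf] at h1
    exact smul_right_injective _ (Nat.cast_ne_zero.2 hf0 : (f : ℂ) ≠ 0)
      (by simpa [H13.twist, funext_iff] using h1)
  obtain ⟨d, ρ, hρ, hρc⟩ := id hα
  haveI := hρ
  obtain ⟨E, _, _, π, ι, η, hπ, hπι, hnorm, hcentE, hη⟩ := exists_cover (ρ := ρ) (R := C)
    (fun g r => by
      rw [hρc]
      have := congrFun (hinv g) r
      rw [H13.twist_apply] at this
      exact (congrArg α (Subtype.ext (by simp))).trans this)
  haveI := hnorm
  haveI : Fintype E := Fintype.ofFinite E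
  haveI : Group.IsSolvable E := solvable_of_central_ker π hcentE
  have hinjι : Function.Injective ι := fun x y h => Subtype.ext (by rw [← hπι x, ← hπι y, h])
  let φC : C ≃* ι.range := MonoidHom.ofInjective hinjι
  haveI : Fintype ι.range := Fintype.ofFinite _
  haveI hηirr : η.IsIrreducible := isIrreducible_of_res (R := C) ι η hη
  set ηc := η.character with hηc
  have hηcc : IsCharacter E ηc := H12.isCharacter_character η
  have hηι : ∀ c : C, ηc (ι c) = α c := by
    intro c
    rw [← hρc]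
    simp only [hηc, Representation.character, hη]
  have hηR : IsIrrCharacter ι.range (fun m : ι.range => ηc m) := by
    have : (fun m : ι.range => ηc m) = α ∘ φC.symm := by
      funext m
      obtain ⟨r, rfl⟩ := φC.surjective m
      rw [Function.comp_apply, MulEquiv.symm_apply_apply]
      exact hηι r
    rw [this]; exact H13.isIrrCharacter_comp_equiv φC.symm hα
  set X := χ ∘ π with hX
  have hXirr : IsIrrCharacter E X := H12.IsIrrCharacter.comp_surjective hχ hπ
  set H1 := H.comap π with hH1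
  haveI : Fintype H1 := Fintype.ofFinite H1
  let πH : H1 →* H := π.subgroupComap H
  have hπH : Function.Surjective πH := fun x => by
    obtain ⟨y, hy⟩ := hπ x
    exact ⟨⟨y, by show π y ∈ H; rw [hy]; exact x.2⟩, Subtype.ext hy⟩
  have hϑ1 : IsIrrCharacter H1 (ϑ ∘ πH) := H12.IsIrrCharacter.comp_surjective hϑ hπH
  have hRH : ι.range ≤ H1 := by
    rintro _ ⟨c, rfl⟩
    show π (ι c) ∈ H
    rw [hπι]; exact hCH c.2
  haveI : (ι.range.subgroupOf H1).Normal := Subgroup.Normal.subgroupOf hnorm H1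
  haveI : Fintype (ι.range.subgroupOf H1) := Fintype.ofFinite _
  haveI : Fintype (H1 ⧸ ι.range.subgroupOf H1) := Fintype.ofFinite _
  let e1 : ι.range.subgroupOf H1 ≃* C := (Subgroup.subgroupOfEquivOfLe hRH).trans φC.symm
  have he1 : ∀ r : ι.range.subgroupOf H1, ι (e1 r) = ((r : H1) : E) := fun r =>
    congrArg Subtype.val (φC.apply_symm_apply (Subgroup.subgroupOfEquivOfLe hRH r))
  have hηH : (fun r : ι.range.subgroupOf H1 => ηc ((r : H1) : E)) = α ∘ e1 := by
    funext r
    rw [Function.comp_apply, ← hηι, he1]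
  have hϑα : classInner (H13.resTo hCH ϑ) α ≠ 0 := by
    obtain ⟨c0, hc0⟩ : ∃ c0 : IrrCharacter C, classInner (H13.resTo hCH ϑ) (c0 : C → ℂ) ≠ 0 := by
      by_contra h
      simp only [not_exists, not_not] at h
      have h1 := H12.eq_zero_of_classInner_irr_eq_zero
        (H12.IsCharacter.isClassFunction (H13.isCharacter_resTo hCH hϑc)) h
      exact H12.irr_apply_one_ne_zero (⟨ϑ, hϑ⟩ : IrrCharacter H) (congrFun h1 1)
    have h2 : classInner (fun x : H => χ x) ϑ ≠ 0 := by
      rw [← H13.classInner_indFun_right H ϑ (H12.IsCharacter.isClassFunction hχc), hϑind,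
        show classInner χ χ = 1 from H12.classInner_irr_self (⟨χ, hχ⟩ : IrrCharacter A)]
      exact one_ne_zero
    have hs := H13.isCharacter_sub_irr (H12.IsCharacter.res hχc H) hϑ h2
    obtain ⟨n1, hn1⟩ := H12.IsCharacter.classInner_nat (H13.isCharacter_resTo hCH hs)
      (H12.isCharacter_irr c0)
    obtain ⟨n2, hn2⟩ := H12.IsCharacter.classInner_nat (H13.isCharacter_resTo hCH hϑc)
      (H12.isCharacter_irr c0)
    have hsum : classInner (fun x : C => χ x) (c0 : C → ℂ) = ((n1 + n2 : ℕ) : ℂ) := by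
      rw [Nat.cast_add, ← hn1, ← hn2, ← H12.classInner_add_left]
      congr 1
      funext x
      simp [H13.resTo_apply]
    have hn20 : n2 ≠ 0 := fun h0 => hc0 (by rw [hn2, h0, Nat.cast_zero])
    suffices hc0α : (c0 : C → ℂ) = α by rw [← hc0α]; exact hc0
    by_contra hd'
    rw [hf, H12.classInner_smul_left, show α = ((⟨α, hα⟩ : IrrCharacter C) : C → ℂ) from rfl,
      H12.classInner_irr_ne (fun h => hd' (congrArg Subtype.val h).symm), mul_zero] at hsum
    have : n1 + n2 = 0 := by exact_mod_cast hsum.symm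
    omega
  obtain ⟨γ0, hγ0⟩ := H13.gallagher_exists (ι.range.subgroupOf H1)
    (η := fun x : H1 => ηc x) (H12.IsCharacter.res hηcc H1)
    (by rw [hηH]; exact H13.isIrrCharacter_comp_equiv e1 hα) hϑ1 (by
      rw [hηH, show (fun r : ι.range.subgroupOf H1 => (ϑ ∘ πH) r) = H13.resTo hCH ϑ ∘ e1 from
        funext fun r => congrArg ϑ (Subtype.ext (show π ((r : H1) : E) = ((e1 r : C) : A) by
          rw [← he1, hπι])), H13.classInner_comp_equiv]
      exact hϑα)
  set γ : H1 → ℂ := ↑(H13.inflateIrr (ι.range.subgroupOf H1) γ0) with hγ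
  have hγirr : IsIrrCharacter H1 γ := (H13.inflateIrr _ γ0).2
  set ζ := indFun H1 γ with hζ
  have hζc : IsCharacter E ζ := H13.isCharacter_indFun _ (H12.isCharacter_of_isIrrCharacter hγirr)
  have hXprod : ζ * ηc = X := by
    rw [hζ, ← H12.indFun_mul_res H1 γ (H12.IsCharacter.isClassFunction hηcc),
      show (fun x : H1 => γ x * ηc x) = ϑ ∘ πH from funext fun x => (congrFun hγ0 x).symm,
      hX, ← hϑind]
    exact indFun_comap_surj π hπ H ϑ
  have hη1 : ηc 1 ≠ 0 := by
    rw [← map_one ι, hηι]; exact H12.irr_apply_one_ne_zero (⟨α, hα⟩ : IrrCharacter C)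
  have hζirr : IsIrrCharacter E ζ := irr_left_of_mul_irr hζc hηcc hη1 (hXprod ▸ hXirr)
  have hζR : ∀ r ∈ ι.range, ζ r = ζ 1 :=
    (ker_indFun_iff ι.range H1 hRH (H12.isCharacter_of_isIrrCharacter hγirr)).1
      (fun x hx => H13.inflateIrr_kernel (ι.range.subgroupOf H1) γ0 hx)
  set C1 := C.comap π with hC1
  have hC1H : C1 ≤ H1 := fun x hx => hCH hx
  have hsc1 : ∀ z ∈ C1, ‖ζ z‖ = ‖ζ 1‖ := by
    intro z hz
    set r := ι ⟨π z, hz⟩ with hr
    have hu : π (r⁻¹ * z) = 1 := by rw [map_mul, map_inv, hr, hπι, inv_mul_cancel]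
    have h1 : ζ z = ζ (r⁻¹ * z) := by
      conv_lhs => rw [← mul_inv_cancel_left r z]
      exact H12.IsCharacter.mul_left_of_eq_degree hζc (hζR r ⟨_, rfl⟩) _
    rw [h1]
    obtain ⟨k, σ, hσ, hσc⟩ := id hζirr
    haveI := hσ
    obtain ⟨c, hc⟩ := H12.exists_scalar_of_commute σ (σ (r⁻¹ * z)) (fun h => by
      rw [← map_mul, ← map_mul, Subgroup.mem_center_iff.1 (hcentE _ hu) h])
    have hk : 0 < Module.finrank ℂ (Fin k → ℂ) := H12.finrank_pos_of_isIrreducible σ
    have hpow : (σ (r⁻¹ * z)) ^ orderOf (r⁻¹ * z) = 1 := H12.rep_pow_orderOf σ _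
    rw [hc, smul_pow, one_pow] at hpow
    have h2 := congrArg (LinearMap.trace ℂ (Fin k → ℂ)) hpow
    rw [map_smul, LinearMap.trace_one, smul_eq_mul] at h2
    have h3 := (mul_eq_right₀ (Nat.cast_ne_zero.2 hk.ne')).1 h2
    rw [← hσc]
    simp [Representation.character, hc,
      H12.norm_eq_one_of_pow_eq_one (orderOf_pos _).ne' h3]
  have hmax1 : IsCoatom H1 := by
    refine ⟨fun h => hmax.1 ?_, fun M hM => ?_⟩
    · rw [← Subgroup.map_comap_eq_self_of_surjective hπ H, ← hH1, h,
        Subgroup.map_top_of_surjective π hπ]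
    · have hle : H ≤ M.map π := by
        rw [← Subgroup.map_comap_eq_self_of_surjective hπ H]
        exact Subgroup.map_mono hM.le
      have hker : π.ker ≤ M := (Subgroup.ker_le_comap π H).trans hM.le
      rcases eq_or_lt_of_le hle with h | h
      · exfalso
        apply hM.ne
        rw [hH1, h, Subgroup.comap_map_eq_self hker]
      · rw [← Subgroup.comap_map_eq_self hker, hmax.2 _ h, Subgroup.comap_top]
  refine berger_step C1 H1 hC1H hmax1 (fun M hM hMH => ?_) hζirr hsc1 (fun N hN hCN => ?_)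
    hγirr rfl (fun m hm => IH m (lt_of_lt_of_le hm ?_))
  · intro x hx
    show π x ∈ C
    have h1 : M.map π ≤ H := Subgroup.map_le_iff_le_comap.2 hMH
    haveI := hM.map π hπ
    exact Subgroup.normal_le_normalCore.2 h1 ⟨x, hx, rfl⟩
  · have hRN : ι.range ≤ N := by
      rintro _ ⟨c, rfl⟩
      exact hCN (show π (ι c) ∈ C by rw [hπι]; exact c.2)
    obtain ⟨φ, k, hφ, hk⟩ := hQP (N.map π) (hN.map π hπ) (fun z hz => by
      obtain ⟨x, rfl⟩ := hπ z
      exact ⟨x, hCN (show π x ∈ C from hZC hz), rfl⟩)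
    haveI : Fintype N := Fintype.ofFinite N
    obtain ⟨c, g, -, hc⟩ := homogeneous_div (ι.range.subgroupOf N)
      (η := fun x : N => ηc x) (ζ := fun x : N => ζ x) (φ := φ ∘ π.subgroupMap N)
      (H12.IsCharacter.res hηcc N)
      (H13.isIrrCharacter_comp_equiv (Subgroup.subgroupOfEquivOfLe hRN) hηR)
      (H12.IsCharacter.res hζc N) (fun r hr => hζR _ hr)
      (H12.irr_apply_one_ne_zero (⟨ζ, hζirr⟩ : IrrCharacter E))
      (H12.IsIrrCharacter.comp_surjective hφ (π.subgroupMap_surjective N)) k (by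
        funext x
        exact (congrFun hXprod (x : E)).trans (congrFun hk (π.subgroupMap N x)))
    exact ⟨_, g, c.2, hc⟩
  · rw [hC1, Subgroup.index_comap_of_surjective C hπ]
    exact hCn

end H15
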