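import Cfsg.Agent.H14.BrauerLocal
import Cfsg.Agent.H15.BergerLemmas

/-!
# Dade: an elementary subgroup covering a `p`-quotient with a multiplicity prime to `p`
-/

set_option autoImplicit false
set_option linter.unusedSectionVars false

open Cfsg
open scoped ComplexConjugate

namespace H15

universe u

theorem sum_modEq_fixed {X : Type*} [Fintype X] {P : Type*} [Group P] [MulAction P X] {p : ℕ}
    [hp : Fact p.Prime] (hP : IsPGroup p P) (f : X → ℕ) (hf : ∀ (g : P) x, f (g • x) = f x)
    (h0 : ∀ x : X, (∀ g : P, g • x = x) → p ∣ f x) : p ∣ ∑ x, f x := by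
  classical
  let Y := Σ x : X, Fin (f x)
  letI actY : MulAction P Y :=
    { smul := fun g y => ⟨g • y.1, Fin.cast (hf g y.1).symm y.2⟩
      one_smul := fun y => Sigma.ext (one_smul P y.1) ((Fin.heq_ext_iff (congrArg f (one_smul P y.1))).2 rfl)
      mul_smul := fun g h y => Sigma.ext (mul_smul g h y.1)
        ((Fin.heq_ext_iff (congrArg f (mul_smul g h y.1))).2 rfl) }
  have hcard : Nat.card Y = ∑ x, f x := by simp [Y]
  have hfix : p ∣ Nat.card (MulAction.fixedPoints P Y) := by
    have e : MulAction.fixedPoints P Y ≃ Σ x : MulAction.fixedPoints P X, Fin (f x.1) :=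
      { toFun := fun y => ⟨⟨y.1.1, fun g => congrArg Sigma.fst (y.2 g)⟩, y.1.2⟩
        invFun := fun z => ⟨⟨z.1.1, z.2⟩, fun g =>
          Sigma.ext (z.1.2 g) ((Fin.heq_ext_iff (congrArg f (z.1.2 g))).2 rfl)⟩
        left_inv := fun y => rfl
        right_inv := fun z => rfl }
    rw [Nat.card_congr e, Nat.card_eq_fintype_card, Fintype.card_sigma]
    exact Finset.dvd_sum fun x _ => by rw [Fintype.card_fin]; exact h0 x.1 x.2
  have hmod := hP.card_modEq_card_fixedPoints Y
  rw [hcard] at hmod
  exact Nat.modEq_zero_iff_dvd.1 (hmod.trans (Nat.modEq_zero_iff_dvd.2 hfix))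

variable {G : Type u} [Group G] [Fintype G] (N : Subgroup G) [hN : N.Normal]

/-- Conjugation by an element of `E` on `E ⊓ N`. -/
def conjInf (E : Subgroup G) (g : E) : ↥(E ⊓ N) ≃* ↥(E ⊓ N) where
  toFun x := ⟨g * x * (g : G)⁻¹, E.mul_mem (E.mul_mem g.2 x.2.1) (E.inv_mem g.2), hN.conj_mem x x.2.2 g⟩
  invFun x := ⟨(g : G)⁻¹ * x * g, E.mul_mem (E.mul_mem (E.inv_mem g.2) x.2.1) g.2, by
    simpa using hN.conj_mem x x.2.2 (g : G)⁻¹⟩
  left_inv x := Subtype.ext (by simp [mul_assoc])
  right_inv x := Subtype.ext (by simp [mul_assoc])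
  map_mul' x y := Subtype.ext (by simp [mul_assoc])

theorem conjInf_mul (E : Subgroup G) (g h : E) (x : ↥(E ⊓ N)) :
    conjInf N E (g * h) x = conjInf N E g (conjInf N E h x) :=
  Subtype.ext (by simp [conjInf, mul_assoc])

theorem conjInf_one (E : Subgroup G) (x : ↥(E ⊓ N)) : conjInf N E 1 x = x :=
  Subtype.ext (by simp [conjInf])

/-- `E` permutes the irreducible characters of `E ⊓ N`. -/
noncomputable def permIrr (E : Subgroup G) : E →* Equiv.Perm (IrrCharacter ↥(E ⊓ N)) where
  toFun g :=
    { toFun := fun φ => ⟨φ.1 ∘ conjInf N E g⁻¹, H13.isIrrCharacter_comp_equiv _ φ.2⟩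
      invFun := fun φ => ⟨φ.1 ∘ conjInf N E g, H13.isIrrCharacter_comp_equiv _ φ.2⟩
      left_inv := fun φ => Subtype.ext (funext fun x => congrArg φ.1
        (by rw [← conjInf_mul, inv_mul_cancel, conjInf_one]))
      right_inv := fun φ => Subtype.ext (funext fun x => congrArg φ.1
        (by rw [← conjInf_mul, mul_inv_cancel, conjInf_one])) }
  map_one' := Equiv.ext fun φ => Subtype.ext (funext fun x => congrArg φ.1
    (by rw [inv_one, conjInf_one]))
  map_mul' g h := Equiv.ext fun φ => Subtype.ext (funext fun x => congrArg φ.1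
    (by rw [mul_inv_rev, conjInf_mul]))

theorem permIrr_apply (E : Subgroup G) (g : E) (φ : IrrCharacter ↥(E ⊓ N)) (x : ↥(E ⊓ N)) :
    ((permIrr N E g φ : IrrCharacter ↥(E ⊓ N)) : ↥(E ⊓ N) → ℂ) x =
      (φ : ↥(E ⊓ N) → ℂ) (conjInf N E g⁻¹ x) := rfl

/-- The conclusion of Dade's theorem. -/
def DadeGood (p : ℕ) (ϑ : N → ℂ) : Prop :=
  ∃ (E : Subgroup G) (_ : Fintype ↥(E ⊓ N)) (φ : ↥(E ⊓ N) → ℂ), IsElementary p E ∧ E ⊔ N = ⊤ ∧
    IsIrrCharacter ↥(E ⊓ N) φ ∧ (∀ (g : E) (x : ↥(E ⊓ N)), φ (conjInf N E g x) = φ x) ∧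
    ∃ m : ℕ, ¬ p ∣ m ∧ classInner (fun x : ↥(E ⊓ N) => ϑ ⟨(x : G), x.2.2⟩) φ = (m : ℂ)

theorem dade_good (p : ℕ) (hp : p.Prime) [Fintype N] (hind : ∃ k : ℕ, N.index = p ^ k) {ϑ : N → ℂ}
    (hϑ : IsIrrCharacter N ϑ) (hinv : ∀ g : G, H13.twist N g ϑ = ϑ) : DadeGood N p ϑ := by
  classical
  haveI := Fact.mk hp
  by_contra hbad
  have hϑc := H12.isCharacter_of_isIrrCharacter hϑ
  let Φ : (G → ℂ) → ℂ := fun f => classInner ((fun n : N => f n) * ϑ) ϑ
  have key : ∀ f ∈ H14.elemLinear (G := G) p, ∃ z : ℤ, Φ f = ((p : ℤ) * z : ℤ) := by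
    intro f hf
    induction hf using AddSubgroup.closure_induction with
    | zero =>
      refine ⟨0, ?_⟩
      show classInner _ _ = _
      rw [show (fun n : N => (0 : G → ℂ) n) * ϑ = 0 from funext fun n => zero_mul _,
        H12.classInner_zero_left]
      simp
    | add a b _ _ ha hb =>
      obtain ⟨za, hza⟩ := ha
      obtain ⟨zb, hzb⟩ := hb
      refine ⟨za + zb, ?_⟩
      show classInner ((fun n : N => (a + b) n) * ϑ) ϑ = _
      rw [show (fun n : N => (a + b) n) * ϑ = (fun n : N => a n) * ϑ + (fun n : N => b n) * ϑ from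
        funext fun n => add_mul _ _ _, H12.classInner_add_left]
      show Φ a + Φ b = _
      rw [hza, hzb]; push_cast; ring
    | neg a _ ha =>
      obtain ⟨za, hza⟩ := ha
      refine ⟨-za, ?_⟩
      show classInner ((fun n : N => (-a) n) * ϑ) ϑ = _
      rw [show (fun n : N => (-a) n) * ϑ = -((fun n : N => a n) * ϑ) from
        funext fun n => neg_mul _ _, H12.classInner_neg_left]
      show - Φ a = _
      rw [hza]; push_cast; ring
    | mem a ha =>
      obtain ⟨E, ν, hE, rfl⟩ := ha
      set U := E ⊓ N with hU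
      haveI : Fintype U := Fintype.ofFinite U
      set θU : U → ℂ := fun x => ϑ ⟨x, x.2.2⟩ with hθU
      set νU : U → ℂ := fun x => (ν ⟨x, x.2.1⟩ : ℂ) with hνU
      have hθUc : IsCharacter U θU := H12.IsCharacter.comp hϑc (Subgroup.inclusion inf_le_right)
      have hνUc : IsCharacter U νU :=
        H12.IsCharacter.comp (H12.isCharacter_monoidHom ν) (Subgroup.inclusion inf_le_left)
      obtain ⟨k, hk⟩ := H12.IsCharacter.classInner_nat (H12.IsCharacter.mul hνUc hθUc) hθUc
      have hval : (Nat.card N : ℂ) * (Nat.card E : ℂ) * Φ (indFun E fun x => (ν x : ℂ)) =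
          (Nat.card G : ℂ) * ((Nat.card U : ℂ) * k) := by
        have hN0 : (Nat.card N : ℂ) ≠ 0 := Nat.cast_ne_zero.2 Nat.card_pos.ne'
        have hE0 : (Nat.card E : ℂ) ≠ 0 := Nat.cast_ne_zero.2 Nat.card_pos.ne'
        have hU0 : (Nat.card U : ℂ) ≠ 0 := Nat.cast_ne_zero.2 Nat.card_pos.ne'
        set e : G → ℂ := extendByZero E (fun x => (ν x : ℂ)) with he
        set w : N → ℂ := fun n => ϑ n * conj (ϑ n) with hw
        have hconj : ∀ x : G, ∑ n : N, e (x⁻¹ * n * x) * w n = ∑ n : N, e n * w n := by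
          intro x
          refine Fintype.sum_equiv (MulAut.conjNormal x⁻¹ : N ≃* N).toEquiv _ _ fun n => ?_
          have h1 : ((MulAut.conjNormal x⁻¹ : N ≃* N) n : G) = x⁻¹ * n * x := by simp
          show _ = e ((MulAut.conjNormal x⁻¹ : N ≃* N) n : G) * w ((MulAut.conjNormal x⁻¹ : N ≃* N) n)
          rw [h1]
          congr 1
          have h2 := congrFun (hinv x⁻¹) n
          have h3 : ϑ ((MulAut.conjNormal x⁻¹ : N ≃* N) n) = ϑ n := by
            rw [← h2, H13.twist_apply]
            exact congrArg ϑ (Subtype.ext (by simp))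
          simp only [w]
          rw [h3]
        have hU' : ∑ n : N, e n * w n = ∑ x : U, νU x * (θU x * conj (θU x)) := by
          let emb : U ↪ N := ⟨fun x => ⟨x, x.2.2⟩, fun a b h => Subtype.ext (congrArg (fun n : N => (n : G)) h)⟩
          symm
          rw [← Finset.sum_subset (Finset.subset_univ (Finset.univ.map emb)) (fun n _ hn => by
            rw [he, H12.extendByZero_of_notMem _ _ (fun hm => hn (Finset.mem_map.2
              ⟨⟨n, hm, n.2⟩, Finset.mem_univ _, rfl⟩)), zero_mul]), Finset.sum_map]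
          refine Finset.sum_congr rfl fun x _ => ?_
          show _ = e (x : G) * w (emb x)
          rw [he, H12.extendByZero_mk _ _ x.2.1]
          rfl
        have hk' : ∑ x : U, νU x * (θU x * conj (θU x)) = (Nat.card U : ℂ) * k := by
          rw [← hk, classInner, ← mul_assoc, mul_inv_cancel₀ hU0, one_mul]
          exact Finset.sum_congr rfl fun x _ => by rw [Pi.mul_apply, mul_assoc]
        show _ * classInner _ _ = _
        rw [classInner, mul_comm (Nat.card N : ℂ), mul_assoc, ← mul_assoc (Nat.card N : ℂ),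
          mul_inv_cancel₀ hN0, one_mul]
        simp only [Pi.mul_apply, H12.indFun_apply, Finset.mul_sum, Finset.sum_mul]
        rw [Finset.sum_comm, ← he]
        calc ∑ x : G, ∑ n : N, (Nat.card E : ℂ) * ((Nat.card E : ℂ)⁻¹ * e (x⁻¹ * n * x) * ϑ n * conj (ϑ n))
            = ∑ _x : G, ∑ n : N, e n * w n := by
              refine Finset.sum_congr rfl fun x _ => ?_
              rw [← hconj x]
              refine Finset.sum_congr rfl fun n _ => ?_
              simp only [w]
              field_simp
          _ = _ := by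
              rw [hU', hk', Finset.sum_const, Finset.card_univ, nsmul_eq_mul,
                Nat.card_eq_fintype_card (α := G)]
      -- index bookkeeping
      set EN := E ⊔ N with hEN
      obtain ⟨r, hr⟩ := hind
      have hdvd : EN.index ∣ p ^ r := hr ▸ Subgroup.index_dvd_of_le le_sup_right
      obtain ⟨j, -, hj⟩ := (Nat.dvd_prime_pow hp).1 hdvd
      have hcard : Nat.card G * Nat.card U = Nat.card N * Nat.card E * EN.index := by
        have h1 : (U.subgroupOf E).index = N.relIndex EN := by
          rw [hU, inf_comm, Subgroup.inf_subgroupOf_right N E]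
          show N.relIndex E = _
          rw [hEN, Subgroup.relIndex_sup_right]
        have h2 := (U.subgroupOf E).card_mul_index
        rw [Nat.card_congr (Subgroup.subgroupOfEquivOfLe inf_le_left).toEquiv, h1] at h2
        have h3 := Subgroup.relIndex_mul_index (le_sup_right : N ≤ EN)
        rw [← N.card_mul_index, ← h3, ← h2]
        ring
      have hΦ : Φ (indFun E fun x => (ν x : ℂ)) = ((EN.index * k : ℕ) : ℂ) := by
        have h0 : (Nat.card N : ℂ) * (Nat.card E : ℂ) ≠ 0 :=
          mul_ne_zero (Nat.cast_ne_zero.2 Nat.card_pos.ne') (Nat.cast_ne_zero.2 Nat.card_pos.ne')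
        refine mul_left_cancel₀ h0 ?_
        rw [hval, ← mul_assoc, ← Nat.cast_mul, hcard]
        push_cast; ring
      rcases Nat.eq_zero_or_pos j with hj0 | hj0
      · -- `E` covers the quotient
        subst hj0
        have htop : E ⊔ N = ⊤ := Subgroup.index_eq_one.1 (by rw [← hEN, hj, pow_zero])
        have hpk : p ∣ k := by
          obtain ⟨a, ha⟩ : ∃ a : IrrCharacter U → ℕ, θU = ∑ φ, (a φ : ℂ) • (φ : U → ℂ) :=
            H12.IsCharacter.exists_mult hθUc
          obtain ⟨b, hb⟩ : ∃ b : IrrCharacter U → ℕ, νU * θU = ∑ φ, (b φ : ℂ) • (φ : U → ℂ) :=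
            H12.IsCharacter.exists_mult (H12.IsCharacter.mul hνUc hθUc)
          have hk2 : k = ∑ φ, b φ * a φ := by
            have h1 : (k : ℂ) = ((∑ φ, b φ * a φ : ℕ) : ℂ) := by
              rw [← hk, hb, ha, H12.classInner_sum_smul_sum_smul]
              simp
            exact_mod_cast h1
          have hinvθ : ∀ (g : E) (x : U), θU (conjInf N E g x) = θU x := fun g x =>
            congrFun (hinv g) ⟨x, x.2.2⟩
          have hinvν : ∀ (g : E) (x : U), νU (conjInf N E g x) = νU x := by
            intro g x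
            show (ν ⟨(g : G) * x * (g : G)⁻¹, _⟩ : ℂ) = ν ⟨x, _⟩
            rw [show (⟨(g : G) * x * (g : G)⁻¹, (conjInf N E g x).2.1⟩ : E) = g * ⟨x, x.2.1⟩ * g⁻¹
              from rfl, map_mul, map_mul, map_inv, mul_inv_cancel_comm]
          have hcoef : ∀ (c : IrrCharacter U → ℕ) (f : U → ℂ), f = ∑ φ, (c φ : ℂ) • (φ : U → ℂ) →
              (∀ (g : E) (x : U), f (conjInf N E g x) = f x) →
              ∀ (g : E) φ, c (permIrr N E g φ) = c φ := by
            intro c f hf hfi g φ
            have h1 : (c (permIrr N E g φ) : ℂ) = classInner f (permIrr N E g φ : U → ℂ) := by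
              rw [hf, H12.classInner_sum_smul_irr]
            have h2 : (c φ : ℂ) = classInner f (φ : U → ℂ) := by
              rw [hf, H12.classInner_sum_smul_irr]
            have h3 : classInner f (permIrr N E g φ : U → ℂ) = classInner f (φ : U → ℂ) := by
              rw [← H13.classInner_comp_equiv (conjInf N E g⁻¹) f (φ : U → ℂ)]
              rw [show f ∘ conjInf N E g⁻¹ = f from funext fun x => hfi g⁻¹ x]
              rfl
            exact_mod_cast (h1.trans h3).trans h2.symm
          let P := (permIrr N E).range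
          have hP : IsPGroup p P := by
            have hle : U.subgroupOf E ≤ (permIrr N E).ker := by
              intro g hg
              rw [MonoidHom.mem_ker]
              ext φ : 1
              refine Subtype.ext (funext fun x => ?_)
              rw [permIrr_apply]
              refine Eq.trans (congrArg (φ : U → ℂ) ?_) (H12.irr_isClassFunction φ x ⟨(g : G)⁻¹, U.inv_mem hg⟩)
              exact Subtype.ext (by simp [conjInf])
            have h4 : (permIrr N E).ker.index ∣ p ^ r := by
              refine (Subgroup.index_dvd_of_le hle).trans ?_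
              rw [hU, inf_comm, Subgroup.inf_subgroupOf_right N E, ← hr]
              show N.relIndex E ∣ N.index
              rw [← Subgroup.relIndex_sup_right, htop, Subgroup.relIndex_top_right]
            obtain ⟨i, -, hi⟩ := (Nat.dvd_prime_pow hp).1 h4
            exact IsPGroup.of_card (n := i) (by rw [← Subgroup.index_ker, hi])
          rw [hk2]
          refine sum_modEq_fixed hP (fun φ => b φ * a φ) ?_ ?_
          · rintro ⟨σ, g, rfl⟩ φ
            show b (permIrr N E g φ) * a (permIrr N E g φ) = _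
            rw [hcoef a θU ha hinvθ g φ, hcoef b _ hb (fun g x => by
              rw [Pi.mul_apply, Pi.mul_apply, hinvν, hinvθ]) g φ]
          · intro φ hφ
            refine dvd_mul_of_dvd_right ?_ _
            by_contra hpa
            refine hbad ⟨E, inferInstance, (φ : U → ℂ), hE, htop, φ.2, fun g x => ?_, a φ, hpa, ?_⟩
            · have h5 := congrFun (congrArg Subtype.val (hφ ⟨_, g⁻¹, rfl⟩)) x
              show (φ : U → ℂ) (conjInf N E g x) = _
              rw [← h5]
              show _ = (φ : U → ℂ) (conjInf N E g⁻¹⁻¹ x)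
              rw [inv_inv]
            · show classInner θU (φ : U → ℂ) = _
              rw [ha, H12.classInner_sum_smul_irr]
        refine ⟨(EN.index * (k / p) : ℕ), ?_⟩
        rw [hΦ]
        obtain ⟨c, rfl⟩ := hpk
        rw [Nat.mul_div_cancel_left c hp.pos]
        push_cast; ring
      · refine ⟨(p ^ (j - 1) * k : ℕ), ?_⟩
        rw [hΦ, hj]
        have : p ^ j = p * p ^ (j - 1) := by rw [← pow_succ', Nat.sub_add_cancel hj0]
        rw [this]
        push_cast; ring
  obtain ⟨m, hm, hmem⟩ := H14.brauer_local (G := G) p hp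
  obtain ⟨z, hz⟩ := key _ hmem
  apply hm
  refine ⟨z, ?_⟩
  have h1 : Φ (fun _ => (m : ℂ)) = m := by
    show classInner ((m : ℂ) • ϑ) ϑ = _
    rw [H12.classInner_smul_left,
      show classInner ϑ ϑ = 1 from H12.classInner_irr_self (⟨ϑ, hϑ⟩ : IrrCharacter N), mul_one]
  rw [h1] at hz
  exact_mod_cast hz

end H15
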