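import Cfsg.Agent.H13.Clifford
import Cfsg.Agent.H15.Extension
import Cfsg.Agent.H35.Subnormal
import Cfsg.Agent.H6.Basic

/-!
# An induced character from a maximal subgroup is not homogeneous on every normal subgroup
-/

set_option autoImplicit false

open Cfsg
open scoped ComplexConjugate Pointwise

namespace H15

universe u

theorem exists_minimal_normal_elementary {G : Type u} [Group G] [Finite G] [Group.IsSolvable G]
    [Nontrivial G] :
    ∃ (K : Subgroup G) (p : ℕ), K.Normal ∧ p.Prime ∧ K ≠ ⊥ ∧ (∀ a ∈ K, a ^ p = 1) ∧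
      (∀ a ∈ K, ∀ b ∈ K, a * b = b * a) ∧
      ∀ B : Subgroup G, B.Normal → B ≤ K → B = ⊥ ∨ B = K := by
  obtain ⟨K, hK, hK0, -, hmin⟩ := H35.exists_minimal_normal_le (⊤ : Subgroup G) top_ne_bot
  haveI := hK
  haveI : Nontrivial K := (Subgroup.nontrivial_iff_ne_bot K).2 hK0
  have hlt := Group.IsSolvable.commutator_lt_top_of_nontrivial K
  have hcomm : ⁅K, K⁆ = ⊥ := by
    have h2 : ⁅K, K⁆ = (commutator K).map K.subtype := (Subgroup.map_subtype_commutator K).symm
    rcases hmin ⁅K, K⁆ inferInstance (Subgroup.commutator_le_self K) with h | h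
    · exact h
    · exfalso
      rw [h2] at h
      refine hlt.ne (Subgroup.map_injective K.subtype_injective ?_)
      rw [h, ← MonoidHom.range_eq_map, Subgroup.range_subtype]
  have hab : ∀ a ∈ K, ∀ b ∈ K, a * b = b * a := by
    intro a ha b hb
    have := Subgroup.commutator_mem_commutator ha hb
    rw [hcomm, Subgroup.mem_bot, commutatorElement_eq_one_iff_mul_comm] at this
    exact this
  obtain ⟨p, hp, hpd⟩ := Nat.exists_prime_and_dvd
    (n := Nat.card K) (fun h => hK0 (Subgroup.card_eq_one.1 h))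
  let B : Subgroup G :=
    { carrier := {x | x ∈ K ∧ x ^ p = 1}
      one_mem' := ⟨K.one_mem, one_pow p⟩
      mul_mem' := fun {a b} ha hb => ⟨K.mul_mem ha.1 hb.1, by
        rw [Commute.mul_pow (hab a ha.1 b hb.1), ha.2, hb.2, one_mul]⟩
      inv_mem' := fun {a} ha => ⟨K.inv_mem ha.1, by rw [inv_pow, ha.2, inv_one]⟩ }
  have hBn : B.Normal := ⟨fun x hx g => ⟨hK.conj_mem x hx.1 g, by
    rw [conj_pow, hx.2, mul_one, mul_inv_cancel]⟩⟩
  haveI := Fact.mk hp
  obtain ⟨z, hz⟩ := exists_prime_orderOf_dvd_card' p hpd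
  have hBK : B = K := by
    refine (hmin B hBn fun x hx => hx.1).resolve_left fun h => ?_
    have hzB : (z : G) ∈ B := ⟨z.2, by
      rw [← Subgroup.coe_pow, ← hz, pow_orderOf_eq_one, Subgroup.coe_one]⟩
    rw [h, Subgroup.mem_bot] at hzB
    have : z = 1 := Subtype.ext hzB
    rw [this, orderOf_one] at hz
    exact hp.one_lt.ne hz
  refine ⟨K, p, hK, hp, hK0, fun a ha => ?_, hab, hmin⟩
  rw [← hBK] at ha
  exact ha.2

variable {G : Type u} [Group G] [Fintype G]

theorem normSq_sum_le_card_filter_mul {ι : Type*} [Fintype ι] (f : ι → ℂ) (P : ι → Prop)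
    [DecidablePred P] (h : ∀ i, ¬ P i → f i = 0) :
    Complex.normSq (∑ i, f i) ≤
      ((Finset.univ.filter P).card : ℝ) * ∑ i, Complex.normSq (f i) := by
  have h1 : ∑ i, f i = ∑ i ∈ Finset.univ.filter P, f i := by
    refine (Finset.sum_subset (Finset.subset_univ _) fun i _ hi => h i ?_).symm
    simpa using hi
  have h2 : ∑ i ∈ Finset.univ.filter P, Complex.normSq (f i) ≤ ∑ i, Complex.normSq (f i) :=
    Finset.sum_le_sum_of_subset_of_nonneg (Finset.subset_univ _) fun i _ _ => Complex.normSq_nonneg _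
  rw [h1, Complex.normSq_eq_norm_sq]
  refine le_trans (pow_le_pow_left₀ (norm_nonneg _) (norm_sum_le _ _) 2) ?_
  refine (sq_sum_le_card_mul_sum_sq).trans ?_
  refine mul_le_mul_of_nonneg_left ?_ (Nat.cast_nonneg _)
  simpa only [Complex.normSq_eq_norm_sq] using h2

theorem sum_normSq_irr' {A : Type u} [Group A] [Fintype A] {φ : A → ℂ} (hφ : IsIrrCharacter A φ) :
    ∑ a : A, Complex.normSq (φ a) = (Nat.card A : ℝ) := by
  have h1 := H12.classInner_irr_self (⟨φ, hφ⟩ : IrrCharacter A)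
  rw [classInner, inv_mul_eq_one₀ (Nat.cast_ne_zero.2 Nat.card_pos.ne')] at h1
  simp only [Complex.mul_conj] at h1
  exact_mod_cast h1.symm

theorem sum_normSq_mem (N : Subgroup G) [Fintype N] [DecidablePred (· ∈ N)] (f : G → ℂ) :
    ∑ g ∈ Finset.univ.filter (fun g => g ∈ N), Complex.normSq (f g) =
      ∑ n : N, Complex.normSq (f n) :=
  Finset.sum_subtype _ (fun g => by simp) _

section Complement

variable (K H L : Subgroup G) [hKn : K.Normal]

theorem card_mul_fibre [Fintype K] [Fintype H] [DecidableEq G] (hKH : K ⊔ H = ⊤)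
    (hinf : K ⊓ H = L) (y : G) :
    (Finset.univ.filter fun z : K × H => (z.1 : G) * z.2 = y).card = Nat.card L := by
  classical
  subst hinf
  obtain ⟨a, ha, b, hb, rfl⟩ := Subgroup.mem_sup_of_normal_left.1 (hKH ▸ Subgroup.mem_top y :
    y ∈ K ⊔ H)
  haveI : Fintype (K ⊓ H : Subgroup G) := Fintype.ofFinite _
  rw [Nat.card_eq_fintype_card, ← Finset.card_univ]
  symm
  refine Finset.card_bij (fun l _ => ((⟨a * l, K.mul_mem ha l.2.1⟩, ⟨(l : G)⁻¹ * b,
    H.mul_mem (H.inv_mem l.2.2) hb⟩) : K × H)) ?_ ?_ ?_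
  · intro l _
    simp [mul_assoc]
  · intro l _ l' _ h
    exact Subtype.ext (mul_left_cancel (congrArg Subtype.val (Prod.ext_iff.1 h).1))
  · rintro ⟨⟨k, hk⟩, ⟨u, hu⟩⟩ hz
    simp only [Finset.mem_filter, Finset.mem_univ, true_and] at hz
    have h1 : a⁻¹ * k = b * u⁻¹ := by
      rw [eq_mul_inv_iff_mul_eq, mul_assoc, hz, inv_mul_cancel_left]
    refine ⟨⟨a⁻¹ * k, K.mul_mem (K.inv_mem ha) hk, ?_⟩, Finset.mem_univ _, ?_⟩
    · rw [h1]; exact H.mul_mem hb (H.inv_mem hu)
    refine Prod.ext (Subtype.ext (mul_inv_cancel_left a k)) (Subtype.ext ?_)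
    show (a⁻¹ * k)⁻¹ * b = u
    rw [h1]
    group

theorem sum_eq_of_complement [Fintype K] (hKH : K ⊔ H = ⊤) (hinf : K ⊓ H = L) (f : G → ℂ)
    (hf : ∀ y : G, ∀ h ∈ H, f (y * h) = f y) :
    (Nat.card L : ℂ) * ∑ y : G, f y = (Nat.card H : ℂ) * ∑ k : K, f k := by
  classical
  haveI : Fintype H := Fintype.ofFinite H
  have h1 : ∑ z : K × H, f ((z.1 : G) * z.2) = (Nat.card H : ℂ) * ∑ k : K, f k := by
    rw [Fintype.sum_prod_type, Finset.mul_sum]
    refine Finset.sum_congr rfl fun k _ => ?_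
    rw [Finset.sum_congr rfl fun (h : H) _ => hf (k : G) h h.2, Finset.sum_const, Finset.card_univ,
      nsmul_eq_mul, Nat.card_eq_fintype_card]
  rw [← h1, Finset.mul_sum, ← Finset.sum_fiberwise Finset.univ (fun z : K × H => (z.1 : G) * z.2)]
  refine Finset.sum_congr rfl fun y _ => ?_
  rw [Finset.sum_congr rfl fun z hz => by rw [(Finset.mem_filter.1 hz).2], Finset.sum_const,
    card_mul_fibre K H L hKH hinf y, nsmul_eq_mul]

theorem indFun_eq_sum_complement [Fintype K] (hKH : K ⊔ H = ⊤) (hinf : K ⊓ H = L) {ϑ : H → ℂ}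
    (hϑ : IsClassFunction H ϑ) (x : G) :
    indFun H ϑ x = (Nat.card L : ℂ)⁻¹ * ∑ k : K, extendByZero H ϑ ((k : G)⁻¹ * x * k) := by
  have hf : ∀ y : G, ∀ h ∈ H,
      extendByZero H ϑ ((y * h)⁻¹ * x * (y * h)) = extendByZero H ϑ (y⁻¹ * x * y) := by
    intro y h hh
    rw [show (y * h)⁻¹ * x * (y * h) = h⁻¹ * (y⁻¹ * x * y) * h by group]
    by_cases hm : y⁻¹ * x * y ∈ H
    · rw [H12.extendByZero_mk _ _ hm,
        H12.extendByZero_mk _ _ (H.mul_mem (H.mul_mem (H.inv_mem hh) hm) hh)]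
      convert hϑ ⟨_, hm⟩ ⟨h⁻¹, H.inv_mem hh⟩ using 2
      exact Subtype.ext (by simp)
    · rw [H12.extendByZero_of_notMem _ _ hm, H12.extendByZero_of_notMem]
      intro hc
      apply hm
      have := H.mul_mem (H.mul_mem hh hc) (H.inv_mem hh)
      rwa [show h * (h⁻¹ * (y⁻¹ * x * y) * h) * h⁻¹ = y⁻¹ * x * y by group] at this
  have h := sum_eq_of_complement K H L hKH hinf (fun y => extendByZero H ϑ (y⁻¹ * x * y)) hf
  have h0 : (Nat.card L : ℂ) ≠ 0 := Nat.cast_ne_zero.2 Nat.card_pos.ne'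
  have h1 : (Nat.card H : ℂ) ≠ 0 := Nat.cast_ne_zero.2 Nat.card_pos.ne'
  rw [H12.indFun_apply]
  field_simp
  linear_combination h

/-- The key inequality: on a normal `N ⊇ K`, the square norm of the induced character is controlled
by the numbers of conjugates falling back into `H`. -/
theorem sum_normSq_indFun_le [Fintype K] (hKH : K ⊔ H = ⊤) (hinf : K ⊓ H = L) {ϑ : H → ℂ}
    (hϑ : IsClassFunction H ϑ) (N : Subgroup G) [hNn : N.Normal] [Fintype N]
    [DecidablePred (· ∈ N)] [DecidablePred (· ∈ H)] :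
    (Nat.card L : ℝ) ^ 2 * ∑ x : N, Complex.normSq (indFun H ϑ x) ≤
      (Nat.card K : ℝ) * ∑ x ∈ Finset.univ.filter (fun x : G => x ∈ N),
        ((Finset.univ.filter fun k : K => (k : G)⁻¹ * x * k ∈ H).card : ℝ) *
          Complex.normSq (extendByZero H ϑ x) := by
  let C : G → ℝ := fun x => ((Finset.univ.filter fun k : K => (k : G)⁻¹ * x * k ∈ H).card : ℝ)
  have hbound : ∀ x : G, (Nat.card L : ℝ) ^ 2 * Complex.normSq (indFun H ϑ x) ≤
      C x * ∑ k : K, Complex.normSq (extendByZero H ϑ ((k : G)⁻¹ * x * k)) := by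
    intro x
    rw [indFun_eq_sum_complement K H L hKH hinf hϑ, Complex.normSq_mul, map_inv₀,
      Complex.normSq_natCast, ← mul_assoc, ← sq, mul_inv_cancel₀ (pow_ne_zero _
        (Nat.cast_ne_zero.2 Nat.card_pos.ne')), one_mul]
    exact normSq_sum_le_card_filter_mul _ _ fun k hk => H12.extendByZero_of_notMem _ _ hk
  have hCconj : ∀ (x : G) (k₀ : K), C ((k₀ : G)⁻¹ * x * k₀) = C x := by
    intro x k₀
    simp only [C]
    congr 1
    refine Finset.card_equiv (Equiv.mulLeft k₀) fun k => ?_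
    simp [Finset.mem_filter, mul_assoc]
  rw [← sum_normSq_mem N (indFun H ϑ), Finset.mul_sum]
  refine (Finset.sum_le_sum fun x _ => hbound x).trans (le_of_eq ?_)
  simp only [Finset.mul_sum]
  rw [Finset.sum_comm]
  have hswap : ∀ k : K, ∑ x ∈ Finset.univ.filter (fun x : G => x ∈ N),
      C x * Complex.normSq (extendByZero H ϑ ((k : G)⁻¹ * x * k)) =
      ∑ x ∈ Finset.univ.filter (fun x : G => x ∈ N),
        C x * Complex.normSq (extendByZero H ϑ x) := by
    intro k
    refine Finset.sum_equiv (MulAut.conj ((k : G)⁻¹)).toEquiv (fun x => ?_) fun x _ => ?_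
    · simp only [Finset.mem_filter, Finset.mem_univ, true_and]
      show x ∈ N ↔ (k : G)⁻¹ * x * ((k : G)⁻¹)⁻¹ ∈ N
      rw [inv_inv]
      exact ⟨fun h => by simpa using hNn.conj_mem x h (k : G)⁻¹, fun h => by
        have := hNn.conj_mem _ h (k : G)
        simpa [mul_assoc] using this⟩
    · show _ = C ((k : G)⁻¹ * x * ((k : G)⁻¹)⁻¹) * Complex.normSq (extendByZero H ϑ ((k : G)⁻¹ * x * ((k : G)⁻¹)⁻¹))
      rw [inv_inv, hCconj]
  rw [Finset.sum_congr rfl fun k _ => hswap k, Finset.sum_const, Finset.card_univ, nsmul_eq_mul,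
    Finset.mul_sum, Nat.card_eq_fintype_card]

end Complement

end H15
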