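/-
Invariant characters of a normal subgroup with `p`-power index extend when a Sylow `p`-subgroup meets
it in a central subgroup whose linear characters extend (via Dade's theorem).
-/
import Mathlib
import Cfsg.Agent.H15.DadeElementary
import Cfsg.Agent.H15.Extension
import Cfsg.Agent.H15.Homogeneous
import Cfsg.Agent.H13.Correspondence

set_option autoImplicit false
set_option linter.unusedSectionVars false
set_option linter.style.haveILetI false

open Cfsg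
open scoped ComplexConjugate

namespace H15

universe u

variable {G : Type u} [Group G] [Fintype G]

/-- On a supplement `E` of `N`, inducing and restricting to `N` pairs like restricting to `E ⊓ N`. -/
theorem inner_res_indFun_supplement (N E : Subgroup G) [N.Normal] [Fintype N] (h : N ⊔ E = ⊤)
    [Fintype ↥(E ⊓ N)] {ψ : E → ℂ} (hψ : IsClassFunction E ψ) {ϑ : N → ℂ}
    (hinv : ∀ g : G, H13.twist N g ϑ = ϑ) :
    classInner (fun n : N => indFun E ψ n) ϑ =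
      classInner (fun l : ↥(E ⊓ N) => ψ ⟨l, l.2.1⟩) (fun l : ↥(E ⊓ N) => ϑ ⟨l, l.2.2⟩) := by
  classical
  have hN0 : (Nat.card N : ℂ) ≠ 0 := Nat.cast_ne_zero.mpr Nat.card_pos.ne'
  set e := extendByZero E ψ with he
  have hk : ∀ k : N, ∑ x : N, e ((k : G)⁻¹ * x * k) * conj (ϑ x) = ∑ x : N, e x * conj (ϑ x) := by
    intro k
    refine Fintype.sum_equiv (MulAut.conjNormal (k : G)⁻¹ : N ≃* N).toEquiv _ _ fun x => ?_
    have h1 : ((MulAut.conjNormal (k : G)⁻¹ : N ≃* N) x : G) = (k : G)⁻¹ * x * k := by simp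
    show _ = e ((MulAut.conjNormal (k : G)⁻¹ : N ≃* N) x : G) *
      conj (ϑ ((MulAut.conjNormal (k : G)⁻¹ : N ≃* N) x))
    rw [h1]
    congr 2
    conv_lhs => rw [← hinv (k : G)⁻¹, H13.twist_apply]
    exact congrArg ϑ (Subtype.ext (by simp))
  have hres : ∑ x : N, e x * conj (ϑ x) =
      ∑ l : ↥(E ⊓ N), ψ ⟨l, l.2.1⟩ * conj (ϑ ⟨l, l.2.2⟩) := by
    let emb : ↥(E ⊓ N) ↪ N :=
      ⟨fun x => ⟨x, x.2.2⟩, fun a b h => Subtype.ext (congrArg (fun n : N => (n : G)) h)⟩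
    symm
    rw [← Finset.sum_subset (Finset.subset_univ (Finset.univ.map emb)) (fun n _ hn => by
      rw [he, H12.extendByZero_of_notMem _ _ (fun hm => hn (Finset.mem_map.2
        ⟨⟨n, hm, n.2⟩, Finset.mem_univ _, rfl⟩)), zero_mul]), Finset.sum_map]
    refine Finset.sum_congr rfl fun x _ => ?_
    show _ = e (x : G) * conj (ϑ (emb x))
    rw [he, H12.extendByZero_mk _ _ x.2.1]
    rfl
  simp only [classInner, indFun_eq_sum_complement N E (E ⊓ N) h (inf_comm N E) hψ, Finset.sum_mul,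
    Finset.mul_sum]
  rw [Finset.sum_comm]
  have e2 : ∀ k : N, (∑ x : N, (Nat.card N : ℂ)⁻¹ * ((Nat.card ↥(E ⊓ N) : ℂ)⁻¹ *
      e ((k : G)⁻¹ * x * k) * conj (ϑ x))) =
      (Nat.card N : ℂ)⁻¹ * ((Nat.card ↥(E ⊓ N) : ℂ)⁻¹ *
        ∑ l : ↥(E ⊓ N), ψ ⟨l, l.2.1⟩ * conj (ϑ ⟨l, l.2.2⟩)) := by
    intro k
    rw [← hres, ← hk k, Finset.mul_sum, Finset.mul_sum]
    exact Finset.sum_congr rfl fun x _ => by ring
  rw [Finset.sum_congr rfl fun k _ => e2 k, Finset.sum_const, Finset.card_univ, nsmul_eq_mul,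
    ← Nat.card_eq_fintype_card (α := N), ← mul_assoc, mul_inv_cancel₀ hN0, one_mul, Finset.mul_sum]

/-- A linear character of a `p`-elementary supplement extending a given one of its part in `N`. -/
theorem exists_linear_extension (p : ℕ) [hp : Fact p.Prime] (N : Subgroup G) [hN : N.Normal]
    (hind : ∃ k : ℕ, N.index = p ^ k) (P : Sylow p G)
    (hcent : ∀ x ∈ (P : Subgroup G) ⊓ N, ∀ y ∈ (P : Subgroup G), x * y = y * x)
    (hlin : ∀ lam : ↥((P : Subgroup G) ⊓ N) → ℂ, IsCharacter ↥((P : Subgroup G) ⊓ N) lam → lam 1 = 1 →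
      ∃ μ : ↥(P : Subgroup G) → ℂ, IsCharacter ↥(P : Subgroup G) μ ∧ μ 1 = 1 ∧
        ∀ x : ↥((P : Subgroup G) ⊓ N), μ ⟨(x : G), x.2.1⟩ = lam x)
    (E : Subgroup G) (hE : IsElementary p E) {φ : ↥(E ⊓ N) → ℂ}
    (hφ : IsIrrCharacter ↥(E ⊓ N) φ) :
    ∃ ψ : E →* ℂˣ, ∀ l : ↥(E ⊓ N), (ψ ⟨l, l.2.1⟩ : ℂ) = φ l := by
  classical
  obtain ⟨x, hx, hxp, k, hk⟩ := hE
  set A := Subgroup.zpowers x
  obtain ⟨Q⟩ : Nonempty (Sylow p E) := inferInstance
  set n := orderOf x with hn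
  set m := p ^ k with hm
  have hnm : n.Coprime m := Nat.Coprime.pow_right k hxp
  have hcardE : Nat.card E = n * m := by
    rw [← A.card_mul_index, hk, Nat.card_zpowers]
  have hQ : Nat.card Q = m := by
    rw [Q.card_eq_multiplicity, hcardE, Nat.factorization_mul (orderOf_pos x).ne'
      (pow_ne_zero _ hp.out.ne_zero), Finsupp.add_apply, hm, hp.out.factorization_pow,
      Finsupp.single_eq_same, Nat.factorization_eq_zero_of_not_dvd, zero_add]
    exact fun hd => hp.out.not_dvd_one (hxp ▸ Nat.dvd_gcd hd dvd_rfl)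
  have hcompl : Subgroup.IsComplement' A (Q : Subgroup E) :=
    Subgroup.isComplement'_of_coprime (by rw [Nat.card_zpowers, hQ, hcardE])
      (by rw [Nat.card_zpowers, hQ]; exact hnm)
  have hdec : ∀ e : E, ∃ a ∈ A, ∃ q ∈ (Q : Subgroup E), a * q = e := fun e => by
    obtain ⟨⟨⟨a, ha⟩, ⟨q, hq⟩⟩, h⟩ := hcompl.2 e
    exact ⟨a, ha, q, hq, h⟩
  have hcA : ∀ a ∈ A, ∀ e : E, Commute a e := fun a ha e =>
    (Subgroup.mem_center_iff.mp (Subgroup.zpowers_le.mpr hx ha) e).symm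
  -- the two exponents
  obtain ⟨t, ht1, ht0⟩ := Nat.chineseRemainder hnm 0 1
  obtain ⟨s, hs1, hs0⟩ := Nat.chineseRemainder hnm 1 0
  have hAn : ∀ a ∈ A, a ^ t = 1 ∧ a ^ s = a := by
    intro a ha
    have hd : orderOf a ∣ n := orderOf_dvd_of_mem_zpowers ha
    exact ⟨orderOf_dvd_iff_pow_eq_one.mp (hd.trans (Nat.modEq_zero_iff_dvd.mp ht1)),
      (pow_eq_pow_iff_modEq.mpr (hs1.of_dvd hd)).trans (pow_one a)⟩
  have hQm : ∀ q ∈ (Q : Subgroup E), q ^ t = q ∧ q ^ s = 1 := by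
    intro q hq
    have hd : orderOf q ∣ m := hQ ▸ Subgroup.orderOf_dvd_natCard _ hq
    exact ⟨(pow_eq_pow_iff_modEq.mpr (ht0.of_dvd hd)).trans (pow_one q),
      orderOf_dvd_iff_pow_eq_one.mp (hd.trans (Nat.modEq_zero_iff_dvd.mp hs0))⟩
  have hparts : ∀ a ∈ A, ∀ q ∈ (Q : Subgroup E), (a * q) ^ t = q ∧ (a * q) ^ s = a := by
    intro a ha q hq
    rw [(hcA a ha q).mul_pow, (hcA a ha q).mul_pow, (hAn a ha).1, (hAn a ha).2, (hQm q hq).1,
      (hQm q hq).2, one_mul, mul_one]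
    exact ⟨rfl, rfl⟩
  -- `A` lies in `N`
  have hAN : ∀ a ∈ A, (a : G) ∈ N := by
    have hxN : (x : G) ∈ N := by
      obtain ⟨r, hr⟩ := hind
      have h1 : (x : G) ^ p ^ r ∈ N := hr ▸ Subgroup.pow_index_mem N (x : G)
      obtain ⟨c, hc⟩ := exists_pow_eq_self_of_coprime (x := (x : G)) (n := p ^ r)
        (by rw [Subgroup.orderOf_coe]; exact (Nat.Coprime.pow_right r hxp).symm)
      rw [← hc]
      exact pow_mem h1 c
    rintro a ⟨i, rfl⟩
    simpa using zpow_mem hxN i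
  -- a conjugate of the image of `Q` lies in `P`
  obtain ⟨R, hR⟩ := (Q.2.map E.subtype).exists_le_sylow
  obtain ⟨g, hg⟩ := MulAction.exists_smul_eq G R P
  have hgQ : ∀ q ∈ (Q : Subgroup E), g * (q : G) * g⁻¹ ∈ (P : Subgroup G) := by
    intro q hq
    rw [← hg]
    exact ⟨(q : G), hR ⟨q, hq, rfl⟩, rfl⟩
  have hgN : ∀ y ∈ N, g * y * g⁻¹ ∈ N := fun y hy => hN.conj_mem y hy g
  have hQN : ∀ q ∈ (Q : Subgroup E), ∀ a ∈ A, (a * q : E).1 ∈ N → (q : G) ∈ N := by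
    intro q _ a ha h
    have := N.mul_mem (N.inv_mem (hAN a ha)) h
    simpa using this
  -- `E ⊓ N` is commutative, so `φ` is linear
  have hcomm : ∀ a b : ↥(E ⊓ N), a * b = b * a := by
    intro a b
    obtain ⟨a₁, ha₁, a₂, ha₂, ea⟩ := hdec ⟨a, a.2.1⟩
    obtain ⟨b₁, hb₁, b₂, hb₂, eb⟩ := hdec ⟨b, b.2.1⟩
    have h := hcent _ ⟨hgQ a₂ ha₂, hgN _ (hQN a₂ ha₂ a₁ ha₁ (by rw [ea]; exact a.2.2))⟩ _ (hgQ b₂ hb₂)
    have h' : Commute a₂ b₂ := by
      apply Subtype.ext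
      have e : ∀ u v : G, g * u * g⁻¹ * (g * v * g⁻¹) = g * (u * v) * g⁻¹ := fun u v => by group
      rw [e, e] at h
      exact mul_left_cancel (mul_right_cancel h)
    have h'' : Commute (a₁ * a₂) (b₁ * b₂) :=
      (hcA a₁ ha₁ _).mul_left (((hcA b₁ hb₁ a₂).symm).mul_right h')
    rw [ea, eb] at h''
    have h3 := congrArg Subtype.val h''.eq
    exact Subtype.ext h3
  obtain ⟨f, hf⟩ := H12.exists_monoidHom_of_apply_one_eq_one (H12.isCharacter_of_isIrrCharacter hφ)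
    (H12.irr_apply_one_of_comm hcomm ⟨φ, hφ⟩)
  -- transport of the `Q`-part to `P ⊓ N` and extension there
  set D := (P : Subgroup G) ⊓ N with hD
  letI : CommGroup D :=
    { (inferInstance : Group D) with mul_comm := fun a b => Subtype.ext (hcent a a.2 b b.2.1) }
  let D₀ : Subgroup D :=
    ((((Q : Subgroup E).map E.subtype).map (MulAut.conj g).toMonoidHom) ⊓ N).subgroupOf D
  have hD₀ : ∀ d : D₀, g⁻¹ * ((d : D) : G) * g ∈ E ⊓ N := by
    intro d
    obtain ⟨⟨_, ⟨q, -, rfl⟩, e⟩, hdN⟩ := Subgroup.mem_subgroupOf.mp d.2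
    refine ⟨?_, by simpa [mul_assoc] using hN.conj_mem _ hdN g⁻¹⟩
    rw [← e]
    simp [mul_assoc]
  let lam₀ : D₀ →* ℂˣ := f.comp
    { toFun := fun d => ⟨g⁻¹ * ((d : D) : G) * g, hD₀ d⟩
      map_one' := Subtype.ext (by simp)
      map_mul' := fun a b => Subtype.ext (by simp [mul_assoc]) }
  obtain ⟨lam, hlam⟩ := MonoidHom.domRestrict_surjective (M := ℂ) D₀ lam₀
  obtain ⟨μ, hμ, hμ1, hμD⟩ := hlin (fun d => (lam d : ℂ)) (H12.isCharacter_monoidHom lam)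
    (by simp)
  obtain ⟨fμ, hfμ⟩ := H12.exists_monoidHom_of_apply_one_eq_one hμ hμ1
  have hsN : ∀ e : E, ((e ^ s : E) : G) ∈ E ⊓ N := by
    intro e
    obtain ⟨a, ha, q, hq, rfl⟩ := hdec e
    rw [(hparts a ha q hq).2]
    exact ⟨a.2, hAN a ha⟩
  have htP : ∀ e : E, g * ((e ^ t : E) : G) * g⁻¹ ∈ (P : Subgroup G) := by
    intro e
    obtain ⟨a, ha, q, hq, rfl⟩ := hdec e
    rw [(hparts a ha q hq).1]
    exact hgQ q hq
  have hpow : ∀ (e : E) (j : ℕ), j = s ∨ j = t → ∀ e' : E, (e * e') ^ j = e ^ j * e' ^ j := by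
    intro e j hj e'
    obtain ⟨a, ha, q, hq, rfl⟩ := hdec e
    obtain ⟨a', ha', q', hq', rfl⟩ := hdec e'
    have e3 : a * q * (a' * q') = a * a' * (q * q') := by
      rw [mul_assoc, ← mul_assoc q, ← (hcA a' ha' q).eq]; simp [mul_assoc]
    rw [e3]
    rcases hj with rfl | rfl
    · rw [(hparts _ (mul_mem ha ha') _ (mul_mem hq hq')).2, (hparts a ha q hq).2,
        (hparts a' ha' q' hq').2]
    · rw [(hparts _ (mul_mem ha ha') _ (mul_mem hq hq')).1, (hparts a ha q hq).1,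
        (hparts a' ha' q' hq').1]
  let πs : E →* ↥(E ⊓ N) :=
    { toFun := fun e => ⟨_, hsN e⟩
      map_one' := Subtype.ext (by simp)
      map_mul' := fun a b => Subtype.ext (by
        show ((a * b) ^ s : E).1 = _
        rw [hpow a s (Or.inl rfl) b]
        rfl) }
  let πt : E →* ↥(P : Subgroup G) :=
    { toFun := fun e => ⟨_, htP e⟩
      map_one' := Subtype.ext (by simp)
      map_mul' := fun a b => Subtype.ext (by
        show g * ((a * b) ^ t : E).1 * g⁻¹ = _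
        rw [hpow a t (Or.inr rfl) b]
        simp [mul_assoc]) }
  refine ⟨f.comp πs * fμ.comp πt, fun l => ?_⟩
  obtain ⟨a, ha, q, hq, e⟩ := hdec ⟨l, l.2.1⟩
  have hqN : (q : G) ∈ N := hQN q hq a ha (by rw [e]; exact l.2.2)
  let d : D₀ := ⟨⟨g * (q : G) * g⁻¹, hgQ q hq, hgN _ hqN⟩, Subgroup.mem_subgroupOf.mpr
    ⟨⟨(q : G), ⟨q, hq, rfl⟩, rfl⟩, hgN _ hqN⟩⟩
  have h1 : (fμ (πt ⟨l, l.2.1⟩) : ℂ) = f ⟨(q : G), q.2, hqN⟩ := by
    rw [show (fμ (πt ⟨l, l.2.1⟩) : ℂ) = μ ⟨g * (q : G) * g⁻¹, hgQ q hq⟩ by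
      rw [← hfμ]
      congr 2
      apply Subtype.ext
      show g * ((⟨l, l.2.1⟩ : E) ^ t : E).1 * g⁻¹ = _
      rw [← e, (hparts a ha q hq).1]]
    rw [show μ ⟨g * (q : G) * g⁻¹, hgQ q hq⟩ = (lam (d : D) : ℂ) from hμD (d : D)]
    rw [show lam (d : D) = lam₀ d from DFunLike.congr_fun hlam d]
    exact congrArg (fun z => (f z : ℂ)) (Subtype.ext (by simp [d, mul_assoc]))
  have h2 : πs ⟨l, l.2.1⟩ = ⟨(a : G), a.2, hAN a ha⟩ := by
    apply Subtype.ext
    show ((⟨l, l.2.1⟩ : E) ^ s : E).1 = _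
    rw [← e, (hparts a ha q hq).2]
  rw [← hf, MonoidHom.mul_apply, Units.val_mul, MonoidHom.comp_apply, MonoidHom.comp_apply, h1, h2,
    ← Units.val_mul, ← map_mul]
  have e' : ((a * q : E) : G) = (l : G) := congrArg Subtype.val e
  exact congrArg (fun z => (f z : ℂ)) (Subtype.ext e')

end H15
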