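import Cfsg.Agent.H12.Linear
import Cfsg.Agent.H13.Induced
import Cfsg.Prelude.Def_Transfer

/-!
# Characters of extraspecial groups
-/

set_option autoImplicit false

open Cfsg
open scoped ComplexConjugate

namespace H15

universe u

variable {P : Type u} [Group P] [Fintype P] {p : ℕ} [hp : Fact p.Prime]

theorem center_le_charKer_of_mem (hP : IsExtraspecial p P) {χ : P → ℂ} {z : P}
    (hz : z ∈ Subgroup.center P) (hz1 : z ≠ 1) {n : ℕ} (ρ : Representation ℂ P (Fin n → ℂ))
    (hρ : ρ.character = χ) (h : ρ z = 1) : ∀ w ∈ Subgroup.center P, χ w = χ 1 := by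
  intro w hw
  haveI : Fact (Nat.card (Subgroup.center P)).Prime := ⟨hP.2.symm ▸ hp.out⟩
  have hgen := zpowers_eq_top_of_prime_card (G := Subgroup.center P) (g := ⟨z, hz⟩) rfl
    (fun h0 => hz1 (congrArg Subtype.val h0))
  have hmem : (⟨w, hw⟩ : Subgroup.center P) ∈ Submonoid.powers (⟨z, hz⟩ : Subgroup.center P) :=
    mem_powers_iff_mem_zpowers.2 (by rw [hgen]; trivial)
  obtain ⟨k, hk⟩ := hmem
  have hk' : z ^ k = w := by simpa using congrArg Subtype.val hk
  rw [← hρ, ← hk']
  simp [Representation.character, h]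

/-- An irreducible character of an extraspecial group that is nontrivial on the centre vanishes
off the centre. -/
theorem extraspecial_vanish (hP : IsExtraspecial p P) {χ : P → ℂ} (hχ : IsIrrCharacter P χ)
    (hne : ∃ z ∈ Subgroup.center P, χ z ≠ χ 1) {x : P} (hx : x ∉ Subgroup.center P) : χ x = 0 := by
  obtain ⟨n, ρ, hρ, rfl⟩ := hχ
  haveI := hρ
  obtain ⟨g, hg⟩ : ∃ g : P, g * x ≠ x * g := by
    by_contra hall
    simp only [not_exists, not_not] at hall
    exact hx (Subgroup.mem_center_iff.2 hall)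
  set z := x⁻¹ * (g * x * g⁻¹) with hz
  have hzc : z ∈ Subgroup.center P := by
    rw [← hP.1.2.2, commutator_def]
    have := Subgroup.commutator_mem_commutator (Subgroup.mem_top x⁻¹) (Subgroup.mem_top g)
    rw [commutatorElement_def, inv_inv] at this
    rw [hz]
    simpa [mul_assoc] using this
  have hz1 : z ≠ 1 := fun h => hg (by
    rw [hz, inv_mul_eq_one] at h
    exact eq_mul_inv_iff_mul_eq.1 h |>.symm)
  obtain ⟨s, hs⟩ := H12.exists_scalar_of_commute ρ (ρ z) (fun h => by
    rw [← map_mul, ← map_mul, Subgroup.mem_center_iff.1 hzc h])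
  have hs1 : s ≠ 1 := by
    rintro rfl
    obtain ⟨w, hw, hne⟩ := hne
    exact hne (center_le_charKer_of_mem hP hzc hz1 ρ rfl (by rw [hs, one_smul]) w hw)
  have h1 : ρ.character (g * x * g⁻¹) = ρ.character x := ρ.char_conj x g
  have h2 : g * x * g⁻¹ = x * z := by rw [hz, mul_inv_cancel_left]
  have h3 : ρ.character (x * z) = s * ρ.character x := by
    simp [Representation.character, hs]
  rw [h2, h3] at h1
  have h4 : (s - 1) * ρ.character x = 0 := by rw [sub_mul, h1, one_mul, sub_self]
  exact (mul_eq_zero.1 h4).resolve_left (sub_ne_zero.2 hs1)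

theorem one_le_of_extraspecial_card (hP : IsExtraspecial p P) {n : ℕ}
    (hcard : Nat.card P = p ^ (2 * n + 1)) : 1 ≤ n := by
  by_contra hn
  have hn0 : n = 0 := by omega
  subst hn0
  have htop : Subgroup.center P = ⊤ :=
    Subgroup.eq_top_of_card_eq _ (by rw [hP.2, hcard]; simp)
  have h : commutator P = ⊥ := by
    rw [commutator_def, Subgroup.commutator_eq_bot_iff_le_centralizer, Subgroup.coe_top,
      Subgroup.centralizer_univ, htop]
  have := hP.2
  rw [← hP.1.2.2, h, Subgroup.card_bot] at this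
  exact hp.out.one_lt.ne this

theorem extraspecial_degree (hP : IsExtraspecial p P) {n : ℕ}
    (hcard : Nat.card P = p ^ (2 * n + 1)) {χ : P → ℂ} (hχ : IsIrrCharacter P χ)
    (hne : ∃ z ∈ Subgroup.center P, χ z ≠ χ 1) : χ 1 = (p : ℂ) ^ n := by
  classical
  have hχc := H12.isCharacter_of_isIrrCharacter hχ
  obtain ⟨m, ρ, hρ, hρc⟩ := id hχ
  haveI := hρ
  have hm : χ 1 = (m : ℂ) := by rw [← hρc]; simp
  have hnorm : ∀ z ∈ Subgroup.center P, χ z * conj (χ z) = (m : ℂ) * m := by
    intro z hz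
    obtain ⟨s, hs⟩ := H12.exists_scalar_of_commute ρ (ρ z) (fun h => by
      rw [← map_mul, ← map_mul, Subgroup.mem_center_iff.1 hz h])
    have h1 : χ z = s * m := by
      rw [← hρc]; simp [Representation.character, hs]
    have h2 : χ z⁻¹ * χ z = (m : ℂ) * m := by
      obtain ⟨s', hs'⟩ := H12.exists_scalar_of_commute ρ (ρ z⁻¹) (fun h => by
        rw [← map_mul, ← map_mul, Subgroup.mem_center_iff.1 (Subgroup.inv_mem _ hz) h])
      have h3 : χ z⁻¹ = s' * m := by
        rw [← hρc]; simp [Representation.character, hs']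
      have h4 : (ρ z⁻¹) * ρ z = 1 := by rw [← map_mul, inv_mul_cancel, map_one]
      rw [hs, hs', smul_mul_smul_comm, one_mul] at h4
      have h5 := congrArg (LinearMap.trace ℂ (Fin m → ℂ)) h4
      simp at h5
      rw [h3, h1]
      linear_combination (m : ℂ) * h5
    rw [← H12.IsCharacter.inv hχc, mul_comm]
    exact h2
  have h1 : (Nat.card P : ℂ) = ∑ g : P, χ g * conj (χ g) := by
    have h := H12.classInner_irr_self (⟨χ, hχ⟩ : IrrCharacter P)
    rw [classInner, inv_mul_eq_one₀ (Nat.cast_ne_zero.2 Nat.card_pos.ne')] at h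
    exact h
  rw [← Finset.sum_subset (Finset.subset_univ (Finset.univ.filter fun g : P => g ∈ Subgroup.center P))
    (fun g _ hg => by rw [extraspecial_vanish hP hχ hne (by simpa using hg), zero_mul]),
    Finset.sum_congr rfl (fun g hg => hnorm g (Finset.mem_filter.1 hg).2), Finset.sum_const,
    ← Fintype.card_subtype, ← Nat.card_eq_fintype_card, hP.2, hcard, nsmul_eq_mul] at h1
  have h2 : p * (p ^ n * p ^ n) = p * (m * m) := by
    have : p ^ (2 * n + 1) = p * (m * m) := by exact_mod_cast h1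
    rw [← this]; ring
  have h3 : p ^ n = m := Nat.mul_self_inj.1 (Nat.eq_of_mul_eq_mul_left hp.out.pos h2)
  rw [hm, ← h3, Nat.cast_pow]

theorem apply_eq_of_linear {χ : P → ℂ} (hP : IsExtraspecial p P) (hχ : IsCharacter P χ)
    (h1 : χ 1 = 1) : ∀ z ∈ Subgroup.center P, χ z = χ 1 := by
  intro z hz
  obtain ⟨f, hf⟩ := H12.exists_monoidHom_of_apply_one_eq_one hχ h1
  rw [← hP.1.2.2] at hz
  have : z ∈ f.ker := Abelianization.commutator_subset_ker f hz
  have h2 := congrFun hf z
  have h3 := congrFun hf 1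
  simp only [MonoidHom.mem_ker] at this
  simp_all

theorem linear_of_center_kernel {χ : P → ℂ} (hP : IsExtraspecial p P) (hχ : IsIrrCharacter P χ)
    (h : ∀ z ∈ Subgroup.center P, χ z = χ 1) : χ 1 = 1 := by
  obtain ⟨n, ρ, hρ, rfl⟩ := hχ
  haveI := hρ
  have hcomm : ∀ a b : P, ρ a * ρ b = ρ b * ρ a := by
    intro a b
    have hmem : a * b * a⁻¹ * b⁻¹ ∈ Subgroup.center P := by
      rw [← hP.1.2.2, commutator_def]
      exact Subgroup.commutator_mem_commutator (Subgroup.mem_top a) (Subgroup.mem_top b)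
    have h1 := h _ hmem
    rw [Representation.char_one] at h1
    have h2 := (H12.character_eq_finrank_iff ρ _).1 h1
    calc ρ a * ρ b = ρ (a * b * a⁻¹ * b⁻¹ * (b * a)) := by rw [← map_mul]; congr 1; group
      _ = ρ b * ρ a := by rw [map_mul, map_mul ρ b a, h2]; rfl
  have hsc : ∀ a : P, ∃ c : ℂ, ρ a = c • (1 : Module.End ℂ (Fin n → ℂ)) := fun a =>
    H12.exists_scalar_of_commute ρ (ρ a) (hcomm a)
  choose c hc using hsc
  have hnorm : ∀ a : P, ‖ρ.character a‖ = n := by
    intro a
    rcases Nat.eq_zero_or_pos n with h0 | hpos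
    · subst h0; simp [Representation.character, hc a]
    have hpow : (ρ a) ^ orderOf a = 1 := H12.rep_pow_orderOf ρ a
    rw [hc a, smul_pow, one_pow] at hpow
    have hca : c a ^ orderOf a = 1 := by
      have := congrArg (LinearMap.trace ℂ (Fin n → ℂ)) hpow
      rw [map_smul, LinearMap.trace_one, smul_eq_mul, Module.finrank_fin_fun] at this
      exact (mul_eq_right₀ (Nat.cast_ne_zero.2 hpos.ne')).1 this
    simp [Representation.character, hc a, H12.norm_eq_one_of_pow_eq_one (orderOf_pos a).ne' hca]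
  haveI := Fintype.ofFinite P
  have h1 := H12.classInner_irr_self (⟨ρ.character, n, ρ, hρ, rfl⟩ : IrrCharacter P)
  rw [classInner, inv_mul_eq_one₀ (Nat.cast_ne_zero.2 Nat.card_pos.ne')] at h1
  simp only [Complex.mul_conj', hnorm, Finset.sum_const, Finset.card_univ, nsmul_eq_mul,
    ← Nat.card_eq_fintype_card] at h1
  have h2 : Nat.card P * (n ^ 2) = Nat.card P * 1 := by rw [mul_one]; exact_mod_cast h1.symm
  have h3 : n = 1 := by
    have := Nat.eq_of_mul_eq_mul_left Nat.card_pos h2
    nlinarith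
  subst h3
  simp

theorem extraspecial_degrees (hP : IsExtraspecial p P) {n : ℕ}
    (hcard : Nat.card P = p ^ (2 * n + 1)) :
    (∀ χ : IrrCharacter P, (χ : P → ℂ) 1 = 1 ∨ (χ : P → ℂ) 1 = (p : ℂ) ^ n) ∧
      Nat.card {χ : IrrCharacter P // (χ : P → ℂ) 1 = (p : ℂ) ^ n} = p - 1 := by
  classical
  have hdich : ∀ χ : IrrCharacter P, (χ : P → ℂ) 1 = 1 ∨ (χ : P → ℂ) 1 = (p : ℂ) ^ n := by
    intro χ
    by_cases h : ∀ z ∈ Subgroup.center P, (χ : P → ℂ) z = (χ : P → ℂ) 1
    · exact Or.inl (linear_of_center_kernel hP χ.2 h)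
    · simp only [not_forall] at h
      obtain ⟨z, hz, hne⟩ := h
      exact Or.inr (extraspecial_degree hP hcard χ.2 ⟨z, hz, hne⟩)
  refine ⟨hdich, ?_⟩
  have hn1 := one_le_of_extraspecial_card hP hcard
  have hpn : 1 < p ^ n := Nat.one_lt_pow (by omega) hp.out.one_lt
  have hidx : (commutator P).index = p ^ (2 * n) := by
    have h := (commutator P).card_mul_index
    rw [hP.1.2.2, hP.2, hcard, pow_succ, mul_comm] at h
    rw [hP.1.2.2]
    exact Nat.eq_of_mul_eq_mul_right hp.out.pos h
  have hlin : (Finset.univ.filter fun χ : IrrCharacter P => (χ : P → ℂ) 1 = 1).card = p ^ (2 * n) := by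
    rw [← hidx, ← H12.card_linear_irr, Nat.card_eq_fintype_card, Fintype.card_subtype]
  have hdeg : ∀ χ : IrrCharacter P, H12.degree (χ : P → ℂ) ^ 2 =
      if (χ : P → ℂ) 1 = 1 then 1 else p ^ (2 * n) := by
    intro χ
    have h := H12.irr_apply_one χ
    split_ifs with h1
    · rw [h1] at h
      have : H12.degree (χ : P → ℂ) = 1 := by exact_mod_cast h.symm
      rw [this, one_pow]
    · rw [(hdich χ).resolve_left h1] at h
      have : H12.degree (χ : P → ℂ) = p ^ n := by exact_mod_cast h.symm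
      rw [this, ← pow_mul, mul_comm]
  have hsum := H12.sum_degree_sq_nat (G := P)
  rw [Finset.sum_congr rfl (fun χ _ => hdeg χ), Finset.sum_ite, Finset.sum_const, Finset.sum_const,
    hlin, hcard, smul_eq_mul, smul_eq_mul, mul_one] at hsum
  have hfilter : (Finset.univ.filter fun χ : IrrCharacter P => (χ : P → ℂ) 1 = (p : ℂ) ^ n) =
      Finset.univ.filter fun χ : IrrCharacter P => ¬ (χ : P → ℂ) 1 = 1 := by
    ext χ
    simp only [Finset.mem_filter, Finset.mem_univ, true_and]
    constructor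
    · intro h h1
      rw [h1] at h
      have : 1 = p ^ n := by exact_mod_cast h
      omega
    · exact fun h => (hdich χ).resolve_left h
  rw [Nat.card_eq_fintype_card, Fintype.card_subtype, hfilter]
  set N := (Finset.univ.filter fun χ : IrrCharacter P => ¬ (χ : P → ℂ) 1 = 1).card
  have h1 : (N + 1) * p ^ (2 * n) = p * p ^ (2 * n) := by
    rw [add_mul, one_mul, add_comm, hsum, pow_succ, mul_comm]
  have := Nat.eq_of_mul_eq_mul_right (pow_pos hp.out.pos _) h1
  omega

theorem extraspecial_induced (hP : IsExtraspecial p P) {n : ℕ}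
    (hcard : Nat.card P = p ^ (2 * n + 1)) (A : Subgroup P) (hA : Nat.card A = p ^ (n + 1))
    {lam : A → ℂ} (hlam : IsCharacter A lam) (hlam1 : lam 1 = 1)
    (hZ : ∃ a : A, (a : P) ∈ Subgroup.center P ∧ lam a ≠ 1) :
    IsIrrCharacter P (indFun A lam) ∧ ∀ x : P, x ∉ Subgroup.center P → indFun A lam x = 0 := by
  classical
  have hidx : A.index = p ^ n := by
    have h := A.card_mul_index
    rw [hA, hcard] at h
    have h2 : p ^ (n + 1) * A.index = p ^ (n + 1) * p ^ n := by rw [h, ← pow_add]; congr 1; omega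
    exact Nat.eq_of_mul_eq_mul_left (pow_pos hp.out.pos _) h2
  have hind := H13.isCharacter_indFun A hlam
  obtain ⟨m, hm⟩ := H12.IsCharacter.exists_mult hind
  obtain ⟨a, haZ, hla⟩ := hZ
  have hlirr : IsIrrCharacter A lam := by
    obtain ⟨f, hf⟩ := H12.exists_monoidHom_of_apply_one_eq_one hlam hlam1
    rw [show lam = fun x => (f x : ℂ) by first | exact hf | exact hf.symm]
    exact H12.isIrrCharacter_monoidHom f
  have hcon : ∀ φ : IrrCharacter P, m φ ≠ 0 → (φ : P → ℂ) 1 = (p : ℂ) ^ n := by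
    intro φ hφ
    refine extraspecial_degree hP hcard φ.2 ⟨a, haZ, fun heq => hla ?_⟩
    have hc := H12.IsCharacter.res (H12.isCharacter_irr φ) A
    obtain ⟨k, hk⟩ := H12.IsCharacter.exists_mult hc
    have hk0 : k ⟨lam, hlirr⟩ ≠ 0 := by
      intro h0
      apply hφ
      have h1 := H12.classInner_sum_smul_irr (fun ψ => (m ψ : ℂ)) φ
      rw [← hm, H13.classInner_indFun_left A lam (H12.irr_isClassFunction φ), ← H12.conj_classInner,
        hk, show lam = ((⟨lam, hlirr⟩ : IrrCharacter A) : A → ℂ) from rfl,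
        H12.classInner_sum_smul_irr, h0, Nat.cast_zero, map_zero] at h1
      exact_mod_cast h1.symm
    -- the centre acts by scalars, so every constituent of the restriction agrees with `φ` on it
    have hsum : ∑ ψ : IrrCharacter A, ((k ψ : ℂ) * (ψ : A → ℂ) a).re =
        ∑ ψ : IrrCharacter A, (k ψ : ℝ) * H12.degree (ψ : A → ℂ) := by
      have h1 := congrFun hk a
      have h2 := congrFun hk 1
      simp only [Finset.sum_apply, Pi.smul_apply, smul_eq_mul, OneMemClass.coe_one] at h1 h2
      rw [heq, h2] at h1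
      rw [← Complex.re_sum, ← h1, Complex.re_sum]
      refine Finset.sum_congr rfl fun ψ _ => ?_
      rw [H12.irr_apply_one]
      simp
    have hle : ∀ ψ ∈ (Finset.univ : Finset (IrrCharacter A)),
        ((k ψ : ℂ) * (ψ : A → ℂ) a).re ≤ (k ψ : ℝ) * H12.degree (ψ : A → ℂ) := by
      intro ψ _
      simp only [Complex.mul_re, Complex.natCast_re, Complex.natCast_im, zero_mul, sub_zero]
      exact mul_le_mul_of_nonneg_left ((Complex.re_le_norm _).trans
        (H12.IsCharacter.norm_le (H12.isCharacter_irr ψ) a)) (Nat.cast_nonneg _)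
    have h3 := (Finset.sum_eq_sum_iff_of_le hle).1 hsum ⟨lam, hlirr⟩ (Finset.mem_univ _)
    simp only [Complex.mul_re, Complex.natCast_re, Complex.natCast_im, zero_mul, sub_zero] at h3
    have hd : H12.degree lam = 1 := by
      have := H12.IsCharacter.apply_one_eq_degree hlam
      rw [hlam1] at this
      exact_mod_cast this.symm
    have h4 : (lam a).re = 1 := by
      have := mul_left_cancel₀ (Nat.cast_ne_zero.2 hk0) h3
      simpa [hd] using this
    have h5 : ‖lam a‖ ≤ 1 := by simpa [hd] using H12.IsCharacter.norm_le hlam a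
    have h6 : (lam a).im = 0 := by
      have h7 := Complex.sq_norm (lam a)
      rw [Complex.normSq_apply, h4] at h7
      nlinarith [norm_nonneg (lam a)]
    exact Complex.ext (by simpa using h4) (by simpa using h6)
  have h1 : ∑ φ : IrrCharacter P, m φ = 1 := by
    have h := congrFun hm 1
    rw [H13.indFun_apply_one, hlam1, hidx, Finset.sum_apply] at h
    have h' : ∀ φ : IrrCharacter P, ((m φ : ℂ) • (φ : P → ℂ)) 1 = ((m φ * p ^ n : ℕ) : ℂ) := by
      intro φ
      by_cases h0 : m φ = 0
      · simp [h0]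
      · simp [hcon φ h0]
    rw [Finset.sum_congr rfl (fun φ _ => h' φ), mul_one, ← Nat.cast_sum, ← Finset.sum_mul] at h
    exact Nat.eq_of_mul_eq_mul_right (pow_pos hp.out.pos n) (by rw [one_mul]; exact_mod_cast h.symm)
  obtain ⟨φ₀, hφ₀⟩ : ∃ φ, m φ ≠ 0 := by
    by_contra hall
    simp only [not_exists, not_not] at hall
    simp [hall] at h1
  have h2 := Finset.add_sum_erase Finset.univ m (Finset.mem_univ φ₀)
  rw [h1] at h2
  have hz : ∀ φ : IrrCharacter P, φ ≠ φ₀ → m φ = 0 := fun φ hφ => by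
    have := Finset.single_le_sum (f := m) (fun _ _ => Nat.zero_le _)
      (Finset.mem_erase.2 ⟨hφ, Finset.mem_univ φ⟩)
    omega
  have heq : indFun A lam = (φ₀ : P → ℂ) := by
    rw [hm, Finset.sum_eq_single φ₀ (fun φ _ hφ => by rw [hz φ hφ, Nat.cast_zero, zero_smul])
      (by simp), show m φ₀ = 1 by omega, Nat.cast_one, one_smul]
  refine ⟨heq ▸ φ₀.2, fun x hx => ?_⟩
  rw [heq]
  refine extraspecial_vanish hP φ₀.2 ?_ hx
  by_contra hall
  simp only [not_exists, not_and, not_not] at hall
  have h3 := linear_of_center_kernel hP φ₀.2 hall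
  rw [hcon φ₀ hφ₀] at h3
  have : p ^ n = 1 := by exact_mod_cast h3
  have := Nat.one_lt_pow (Nat.one_le_iff_ne_zero.1 (one_le_of_extraspecial_card hP hcard))
    hp.out.one_lt
  omega

end H15
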