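import Cfsg.Agent.H13.Correspondence

/-!
# Fully ramified characters
-/

set_option autoImplicit false

open Cfsg
open scoped ComplexConjugate

namespace H15

universe u

variable {G : Type u} [Group G] [Fintype G]

/-- If `χ` restricts to a multiple of an irreducible character, then the multiplicity
squared is at most the index, with equality exactly when `χ` vanishes off `N`. -/
theorem sum_normSq_split (N : Subgroup G) [Fintype N] {χ : G → ℂ} (hχ : IsIrrCharacter G χ)
    {ϑ : N → ℂ} (hϑ : IsIrrCharacter N ϑ) {e : ℕ} (he : (fun n : N => χ n) = (e : ℂ) • ϑ)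
    [DecidablePred (· ∈ N)] :
    (Nat.card G : ℝ) = (e : ℝ) ^ 2 * Nat.card N +
      ∑ g ∈ Finset.univ.filter (fun g : G => g ∉ N), Complex.normSq (χ g) := by
  classical
  have key : ∀ {H : Type u} [Group H] [Fintype H] (φ : IrrCharacter H),
      ∑ h : H, Complex.normSq ((φ : H → ℂ) h) = (Nat.card H : ℝ) := by
    intro H _ _ φ
    have h1 := H12.classInner_irr_self φ
    rw [classInner, inv_mul_eq_one₀ (Nat.cast_ne_zero.2 Nat.card_pos.ne')] at h1
    simp only [Complex.mul_conj] at h1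
    exact_mod_cast h1.symm
  rw [← key (⟨χ, hχ⟩ : IrrCharacter G), ← Finset.sum_filter_add_sum_filter_not Finset.univ
    (fun g : G => g ∈ N), ← key (⟨ϑ, hϑ⟩ : IrrCharacter N), Finset.mul_sum]
  congr 1
  rw [Finset.sum_subtype (Finset.univ.filter fun g : G => g ∈ N) (p := fun g => g ∈ N)
    (fun g => by simp)]
  refine Finset.sum_congr rfl fun n _ => ?_
  have := congrFun he n
  simp only [Pi.smul_apply, smul_eq_mul] at this
  show Complex.normSq (χ n) = _ * Complex.normSq (ϑ n)
  rw [show χ (n : G) = (e : ℂ) * ϑ n from this, Complex.normSq_mul, Complex.normSq_natCast]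
  ring

variable (N : Subgroup G) [hN : N.Normal] [Fintype N]

theorem fullyRamified_equiv {χ : G → ℂ} (hχ : IsIrrCharacter G χ) {ϑ : N → ℂ}
    (hϑ : IsIrrCharacter N ϑ) (hcon : classInner (fun n : N => χ n) ϑ ≠ 0) :
    ((∃ e : ℕ, (fun n : N => χ n) = (e : ℂ) • ϑ ∧ e ^ 2 = N.index) ↔
      ((∀ g : G, g ∉ N → χ g = 0) ∧ ∀ g : G, H13.twist N g ϑ = ϑ)) ∧
    ((∃ e : ℕ, (fun n : N => χ n) = (e : ℂ) • ϑ ∧ e ^ 2 = N.index) ↔
      ((∀ g : G, H13.twist N g ϑ = ϑ) ∧
        ∀ ψ : G → ℂ, IsIrrCharacter G ψ → classInner (indFun N ϑ) ψ ≠ 0 → ψ = χ)) := by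
  classical
  let c : IrrCharacter G := ⟨χ, hχ⟩
  have hχc := H12.isCharacter_of_isIrrCharacter hχ
  have hϑc := H12.isCharacter_of_isIrrCharacter hϑ
  have hχcl := H12.IsCharacter.isClassFunction hχc
  have hinv_of : ∀ e : ℕ, (fun n : N => χ n) = (e : ℂ) • ϑ → ∀ g : G, H13.twist N g ϑ = ϑ := by
    intro e he g
    have he0 : (e : ℂ) ≠ 0 := by
      intro h0
      apply hcon
      rw [he, h0, zero_smul, H12.classInner_zero_left]
    have h1 := H13.twist_res N hχcl g
    rw [he] at h1
    exact smul_right_injective _ he0 (by simpa [H13.twist, funext_iff] using h1)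
  have hres_of : (∀ g : G, H13.twist N g ϑ = ϑ) → ∃ e : ℕ, (fun n : N => χ n) = (e : ℂ) • ϑ := by
    intro hinv
    obtain ⟨e, he⟩ := H12.IsCharacter.classInner_nat (H12.IsCharacter.res hχc N) hϑc
    refine ⟨e, ?_⟩
    have h := H13.clifford_res N hχ hϑ hcon {⟨ϑ, hϑ⟩} (fun ψ => by
      rw [Finset.mem_singleton]
      constructor
      · rintro rfl; exact ⟨1, hinv 1⟩
      · rintro ⟨x, hx⟩; exact Subtype.ext (hx.symm.trans (hinv x)))
    rw [Finset.sum_singleton, he] at h
    exact h
  have hindex : (Nat.card G : ℝ) = (N.index : ℝ) * Nat.card N := by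
    rw [← N.index_mul_card]; push_cast; ring
  have hN0 : (Nat.card N : ℝ) ≠ 0 := Nat.cast_ne_zero.2 Nat.card_pos.ne'
  -- decomposition of the induced character
  obtain ⟨m, hm⟩ := H12.IsCharacter.exists_mult (H13.isCharacter_indFun N hϑc)
  have hmc : ∀ e : ℕ, (fun n : N => χ n) = (e : ℂ) • ϑ → m c = e := by
    intro e he
    have h1 := H12.classInner_sum_smul_irr (fun φ => (m φ : ℂ)) c
    rw [← hm, H13.classInner_indFun_left N ϑ hχcl, ← H12.conj_classInner] at h1
    simp only [c, he, H12.classInner_smul_left] at h1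
    have h2 := H12.classInner_irr_self (⟨ϑ, hϑ⟩ : IrrCharacter N)
    simp only at h2
    rw [h2, mul_one, Complex.conj_natCast] at h1
    exact_mod_cast h1.symm
  have hdeg : N.index * H12.degree ϑ = ∑ φ : IrrCharacter G, m φ * H12.degree (φ : G → ℂ) := by
    have h1 := congrFun hm 1
    rw [H13.indFun_apply_one, Finset.sum_apply, H12.IsCharacter.apply_one_eq_degree hϑc] at h1
    simp only [Pi.smul_apply, H12.irr_apply_one, smul_eq_mul] at h1
    exact_mod_cast h1
  have hcdeg : ∀ e : ℕ, (fun n : N => χ n) = (e : ℂ) • ϑ → H12.degree χ = e * H12.degree ϑ := by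
    intro e he
    have h1 := congrFun he 1
    simp only [OneMemClass.coe_one, Pi.smul_apply, smul_eq_mul,
      H12.IsCharacter.apply_one_eq_degree hχc, H12.IsCharacter.apply_one_eq_degree hϑc] at h1
    exact_mod_cast h1
  refine ⟨⟨?_, ?_⟩, ⟨?_, ?_⟩⟩
  · rintro ⟨e, he, hind⟩
    refine ⟨fun g hg => ?_, hinv_of e he⟩
    have h1 := sum_normSq_split N hχ hϑ he
    rw [hindex, ← hind] at h1
    push_cast at h1
    have h2 : ∑ x ∈ Finset.univ.filter (fun g : G => g ∉ N), Complex.normSq (χ x) = 0 := by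
      linarith
    have h3 := (Finset.sum_eq_zero_iff_of_nonneg fun x _ => Complex.normSq_nonneg _).1 h2 g
      (by simpa using hg)
    exact Complex.normSq_eq_zero.1 h3
  · rintro ⟨hvan, hinv⟩
    obtain ⟨e, he⟩ := hres_of hinv
    refine ⟨e, he, ?_⟩
    have h1 := sum_normSq_split N hχ hϑ he
    rw [Finset.sum_eq_zero (fun g hg => by
      rw [hvan g (Finset.mem_filter.1 hg).2, map_zero]), add_zero, hindex] at h1
    have h2 := mul_right_cancel₀ hN0 h1
    exact_mod_cast h2.symm
  · rintro ⟨e, he, hind⟩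
    refine ⟨hinv_of e he, fun ψ hψ hne => ?_⟩
    by_contra hψχ
    let d : IrrCharacter G := ⟨ψ, hψ⟩
    have hdc : d ≠ c := fun h => hψχ (congrArg Subtype.val h)
    have hmd : m d ≠ 0 := by
      intro h0
      apply hne
      rw [hm, show ψ = (d : G → ℂ) from rfl, H12.classInner_sum_smul_irr, h0, Nat.cast_zero]
    have h1 : m c * H12.degree χ + m d * H12.degree ψ ≤ N.index * H12.degree ϑ := by
      rw [hdeg, ← Finset.sum_pair (f := fun φ : IrrCharacter G => m φ * H12.degree (φ : G → ℂ))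
        hdc.symm]
      exact Finset.sum_le_sum_of_subset (Finset.subset_univ _)
    rw [hmc e he, hcdeg e he, ← hind] at h1
    have h2 : 0 < m d * H12.degree ψ :=
      Nat.mul_pos (Nat.pos_of_ne_zero hmd) (H12.irr_degree_pos d)
    nlinarith [h1, h2]
  · rintro ⟨hinv, huniq⟩
    obtain ⟨e, he⟩ := hres_of hinv
    refine ⟨e, he, ?_⟩
    have hzero : ∀ φ : IrrCharacter G, φ ≠ c → m φ = 0 := by
      intro φ hφ
      by_contra h0
      apply hφ
      refine Subtype.ext (huniq _ φ.2 ?_)
      rw [hm, H12.classInner_sum_smul_irr]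
      exact_mod_cast h0
    rw [Finset.sum_eq_single c (fun φ _ hφ => by rw [hzero φ hφ, zero_mul]) (by simp), hmc e he,
      show H12.degree (c : G → ℂ) = H12.degree χ from rfl, hcdeg e he, ← mul_assoc] at hdeg
    rw [sq]
    exact (Nat.eq_of_mul_eq_mul_right (H12.irr_degree_pos ⟨ϑ, hϑ⟩) hdeg).symm

end H15
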