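/-
The coherence system on the characters of a maximal subgroup of type P induced from the characters of
its derived subgroup whose kernel does not contain `M_F` (PF 5.3 / 8.17).
-/
import Mathlib
import Cfsg.Agent.H15.PTICoherence
import Cfsg.Agent.H16.FTInterface
import Cfsg.Agent.H16.PF8PTIDade

set_option autoImplicit false
set_option linter.unusedSectionVars false

open Cfsg
open scoped ComplexConjugate

namespace H15

universe u

variable {G : Type u} [Group G] [Fintype G]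

namespace IsPTIDadeFamily

variable {L : Subgroup G} [Fintype L] {K N : Subgroup L} {W₁ W₂ : Subgroup G} {A₀ : Set G}
  {H : G → Subgroup G} {μ : (↥(W₁ ⊔ W₂) →* ℂˣ) → L → ℂ} {δ : (↥(W₁ ⊔ W₂) →* ℂˣ) → ℂ}
  {η : (↥(W₁ ⊔ W₂) →* ℂˣ) → G → ℂ}

variable (hF : IsPTIDadeFamily L K N W₁ W₂ A₀ H μ δ η)
include hF

theorem exists_not_triv : ∃ ω : ↥(W₁ ⊔ W₂) →* ℂˣ, ¬ TrivOn W₂ ω := by
  obtain ⟨-, hJ⟩ := ti_card_three hF.hyp.ti hF.hyp.odd hF.eta
  obtain ⟨⟨ψ, hψ⟩, hne, -⟩ := H16.exists_third hJ ⟨1, trivOn_one W₁⟩ ⟨1, trivOn_one W₁⟩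
  exact ⟨ψ, fun h => hne (Subtype.ext (dual_ext (fun w hw => hψ w hw) fun w hw => h w hw))⟩

theorem classSum_mem_indAboveNot {ω : ↥(W₁ ⊔ W₂) →* ℂˣ} (h : ¬ TrivOn W₂ ω) :
    classSum W₁ W₂ μ ω ∈ H16.FT.indAboveNot K N ⊥ := by
  obtain ⟨n, hn, hne⟩ := hF.mu_kernel h
  exact ⟨fun k : K => μ ω k, (hF.classSum_eq ω).2,
    fun a ha => by
      have : a = 1 := Subtype.ext (Subgroup.mem_bot.mp ha)
      rw [this],
    ⟨n, hn, hne⟩, (hF.classSum_eq ω).1⟩

open Classical in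
/-- The coherence system on the characters induced from those not trivial on `N`. -/
theorem kernel_system (hoddL : Odd (Nat.card L)) :
    ∃ R : (L → ℂ) → Finset (G → ℂ),
      IsCoherenceSystem (H16.FT.indAboveNot K N ⊥) (dadeIsometry A₀ L H) R ∧
      (∀ ω, ¬ TrivOn W₂ ω →
        R (classSum W₁ W₂ μ ω) = (resClass W₁ W₂ ω).image (fun x => δ ω • η x) ∪
          (resClass W₁ W₂ ω⁻¹).image (fun x => -δ ω • η x)) ∧
      (∀ χ ∈ H16.FT.indAboveNot K N ⊥, IsIrrCharacter L χ →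
        ∀ α ∈ R χ, ∀ ω, classInner α (η ω) = 0) := by
  have := hF.hyp.phyp.normal
  obtain ⟨ω₀, h₀⟩ := hF.exists_not_triv
  obtain ⟨R, h1, h2, h3⟩ := hF.exists_system (H16.FT.indAboveNot K N ⊥)
    ⟨_, hF.classSum_mem_indAboveNot h₀⟩
    (fun χ hχ => by
      obtain ⟨θ, hθ, -, ⟨n, hn, hne⟩, rfl⟩ := hχ
      refine ⟨fun k => conj (θ k), H12.isIrrCharacter_conj hθ, fun a ha => by
        have : a = 1 := Subtype.ext (Subgroup.mem_bot.mp ha)
        rw [this],
        ⟨n, hn, fun e => hne (by simpa using congrArg conj e)⟩, H16.conj_indFun K θ⟩)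
    (fun χ hχ => by
      obtain ⟨θ, hθ, -, hker, rfl⟩ := hχ
      rcases hF.induced_cases hoddL hθ hker with ⟨ω, e1, e2, -⟩ | h
      · exact Or.inl ⟨ω, e1, e2⟩
      · exact Or.inr h)
  exact ⟨R, h1, fun ω hω => h2 ω hω (hF.classSum_mem_indAboveNot hω), h3⟩

end IsPTIDadeFamily

variable {M W₁ U W₂ : Subgroup G} [Fintype M]

/-- The coherence system of a maximal subgroup that is not of Type I. -/
theorem typeP_system (hG : IsMinSimpleOddOrder G) (B : H16.FT.BG G) (hM : IsCoatom M)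
    (hI : ¬ H81.IsTypeIw M) (hP : IsTypePWith M W₁ U W₂) :
    ∃ R, IsCoherenceSystem (H16.FT.indAboveNot (commutator ↥M) (fittingHall ↥M) ⊥)
      (dadeIsometry (H81.typeA0w M) M (supportR M)) R := by
  classical
  obtain ⟨μ, δ, η, hF⟩ := H16.FT.exists_typeP_family hG B hP hM hI
  obtain ⟨R, hR, -, -⟩ := hF.kernel_system
    (by exact H82.odd_card_subgroup hG M)
  exact ⟨R, hR⟩

end H15
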